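import Groth.Agent.KSixRel.AmpLpull

/-!
# Tor amplitude of `F ⊗^L Lf^* G`
-/

set_option autoImplicit false
set_option linter.style.haveILetI false
set_option backward.isDefEq.respectTransparency false
set_option backward.isDefEq.respectTransparency.types false

universe u

open CategoryTheory CategoryTheory.Limits AlgebraicGeometry MonoidalCategory

attribute [local instance] HasDerivedCategory.standard

namespace Groth.Agent.KSixRel

open KFlatLib

/-- The tensor product of a complex of tor amplitude `[a, b]` over `B` with a K-flat complex of tor amplitude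
`[c, d]` over `A`. -/
theorem amp_tensor {A B : Type u} [CommRing A] [CommRing B] (ψ : A →+* B) (N P : DRing.Cx B)
    (hP : KFlat (curriedTensor (ModuleCat.{u} B)) P) (a b c d : ℤ)
    (hN : DRing.HasTorAmplitudeIn B a b (DRing.toD N))
    (hA : DRing.HasTorAmplitudeIn A c d (DRing.toD ((DRing.restrictCx ψ).obj P))) :
    DRing.HasTorAmplitudeIn A (a + c) (b + d) (DerivedCategory.Q.obj
      (((ModuleCat.restrictScalars ψ).mapHomologicalComplex (ComplexShape.up ℤ)).obj
        (((curriedTensor (ModuleCat.{u} B)).map₂CochainComplex.obj N).obj P))) := by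
  let T := curriedTensor (ModuleCat.{u} B)
  obtain ⟨E, hv, hf, ⟨e⟩⟩ := hN
  obtain ⟨Z, s, hs, t, ht⟩ := DerivedCategory.right_fac (C := ModuleCat.{u} B) (X := E) (Y := N) e.hom
  haveI : IsIso (DerivedCategory.Q.map s) := hs
  haveI : IsIso (DerivedCategory.Q.map t) := by
    have h : DerivedCategory.Q.map t = DerivedCategory.Q.map s ≫ e.hom := by
      rw [ht, IsIso.hom_inv_id_assoc]
    rw [h]
    infer_instance
  haveI : QuasiIso s := (DerivedCategory.isIso_Q_map_iff_quasiIso _ _).1 inferInstance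
  haveI : QuasiIso t := (DerivedCategory.isIso_Q_map_iff_quasiIso _ _).1 inferInstance
  haveI : QuasiIso ((T.map₂CochainComplex.map s).app P) := hP.quasiIso_map s
  haveI : QuasiIso ((T.map₂CochainComplex.map t).app P) := hP.quasiIso_map t
  let Rψ := (ModuleCat.restrictScalars ψ).mapHomologicalComplex (ComplexShape.up ℤ)
  haveI := Functor.preservesFiniteLimits_of_preservesHomology (ModuleCat.restrictScalars ψ)
  haveI : QuasiIso (Rψ.map ((T.map₂CochainComplex.map s).app P)) := by
    constructor; intro n; infer_instance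
  haveI : QuasiIso (Rψ.map ((T.map₂CochainComplex.map t).app P)) := by
    constructor; intro n; infer_instance
  haveI := (DerivedCategory.isIso_Q_map_iff_quasiIso _ (Rψ.map ((T.map₂CochainComplex.map s).app P))).2 inferInstance
  haveI := (DerivedCategory.isIso_Q_map_iff_quasiIso _ (Rψ.map ((T.map₂CochainComplex.map t).app P))).2 inferInstance
  obtain ⟨E', h1, h2, ⟨e'⟩⟩ := H9Misc.DRingTorLTensor.hasTorAmplitudeIn_tensor ψ E P hv hf hA
  exact ⟨E', h1, h2, ⟨e' ≪≫ (asIso (DerivedCategory.Q.map (Rψ.map ((T.map₂CochainComplex.map s).app P)))).symm ≪≫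
    asIso (DerivedCategory.Q.map (Rψ.map ((T.map₂CochainComplex.map t).app P)))⟩⟩

variable {X Y Z : Scheme.{u}} (f : X ⟶ Y) (g : Y ⟶ Z)

/-- Tor amplitude of `F ⊗ f^* P` for K-flat `P`. -/
theorem hasTorAmplitude_tensor_pull (F : CochainComplex X.Modules ℤ) (a b : ℤ)
    (hF : DerSch.HasTorAmplitude f a b F) (P : CochainComplex Y.Modules ℤ) (hP : DCoh.IsKFlat P) (c d : ℤ)
    (hG : DerSch.HasTorAmplitude g c d P) :
    DerSch.HasTorAmplitude (f ≫ g) (a + c) (b + d) ((DCoh.tensorCx.obj F).obj ((pullCx f).obj P)) := by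
  intro x
  let φ := (f.stalkMap x).hom
  let ψ := (g.stalkMap (f.base x)).hom
  have hA : DRing.HasTorAmplitudeIn (Z.presheaf.stalk (g.base (f.base x))) c d
      (DRing.toD ((DRing.restrictCx ψ).obj ((stalkCx (f.base x)).obj P))) := by
    obtain ⟨E, hv, hfl, ⟨eE⟩⟩ := hG (f.base x)
    exact ⟨E, hv, hfl, ⟨eE ≪≫ DerivedCategory.Q.mapIso
      ((Functor.mapHomologicalComplexCompIso (F := DerSch.stalkFunctor Y (f.base x))
        (G := ModuleCat.restrictScalars ψ) (Iso.refl (DerSch.stalkOver g (f.base x))) (ComplexShape.up ℤ)).app P).symm⟩⟩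
  obtain ⟨ex⟩ := nonempty_stalkOver_tensor_pull f F P x
  obtain ⟨E, hv, hfl, ⟨eE⟩⟩ := amp_tensor ψ ((DerSch.stalkCxOver f x).obj F) ((stalkCx (f.base x)).obj P)
    ((kFlat_iff_stalk P).1 hP (f.base x)) a b c d (hF x) hA
  let u : DerSch.stalkOver (f ≫ g) x ≅ DerSch.stalkOver f x ⋙ ModuleCat.restrictScalars ψ :=
    Functor.isoWhiskerLeft _ (ModuleCat.restrictScalarsComp' ψ φ
      ((f ≫ g).stalkMap x).hom (by rw [Scheme.Hom.stalkMap_comp]; rfl)) ≪≫ (Functor.associator _ _ _).symm
  exact ⟨E, hv, hfl, ⟨eE ≪≫ DerivedCategory.Q.mapIso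
    (((ModuleCat.restrictScalars ψ).mapHomologicalComplex (ComplexShape.up ℤ)).mapIso ex.symm ≪≫
      (Functor.mapHomologicalComplexCompIso (F := DerSch.stalkOver f x)
        (G := ModuleCat.restrictScalars ψ) u.symm (ComplexShape.up ℤ)).app _)⟩⟩

/-- Tor amplitude of `Lf^* G ⊗^L F`. -/
theorem hasTorAmplitudeD_ltensor_lpull (F : CochainComplex X.Modules ℤ) (a b : ℤ)
    (hF : DerSch.HasTorAmplitude f a b F) (G : CochainComplex Y.Modules ℤ) (c d : ℤ)
    (hG : DerSch.HasTorAmplitude g c d G) [DCoh.HasLpull f] [DCoh.HasLTensorCx F] :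
    DerSch.HasTorAmplitudeD (f ≫ g) (a + c) (b + d)
      ((DCoh.LTensorCx F).obj ((DCoh.Lpull f).obj (DCoh.toD Y G))) := by
  intro K hK
  obtain ⟨eK⟩ := hK
  let P := (kRes Y).obj G
  haveI := (flatCover Y).quasiIso_ψ G
  haveI := isIso_Q_map ((flatCover Y).ψ.app G) inferInstance
  let eP : DCoh.toD Y P ≅ DCoh.toD Y G := asIso (DerivedCategory.Q.map ((flatCover Y).ψ.app G))
  refine hasTorAmplitude_of_iso (f ≫ g) (F := (DCoh.tensorCx.obj F).obj ((pullCx f).obj P)) ?_
    (hasTorAmplitude_tensor_pull f g F a b hF P (isKFlat_kRes G) c d (hasTorAmplitude_of_iso g eP.symm hG))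
  exact DerivedCategory.Q.mapIso ((symmIso (tensorBiFlipIso X) F).app ((pullCx f).obj P)).symm ≪≫
    (ltensorCxIso F (isKFlat_pullback f (isKFlat_kRes G))).symm ≪≫
    (DCoh.LTensorCx F).mapIso ((lpullIso f (isKFlat_kRes G)).symm ≪≫ (DCoh.Lpull f).mapIso eP) ≪≫ eK.symm

end Groth.Agent.KSixRel
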