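import Groth.Agent.H26.FibModel
import Groth.Agent.H9Misc.DRingTorDim
import Groth.Agent.KFlatLib.Scheme.RelTor
import Groth.Prelude.Def_DerSch2

/-!
# Tor amplitude and flatness of the terms
-/

set_option autoImplicit false
set_option linter.style.haveILetI false
set_option backward.isDefEq.respectTransparency false
set_option backward.isDefEq.respectTransparency.types false

universe u

open CategoryTheory CategoryTheory.Limits AlgebraicGeometry

attribute [local instance] HasDerivedCategory.standard

namespace Groth.Agent.KSixRel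

open KFlatLib

variable {X S : Scheme.{u}} (f : X ⟶ S)

theorem flat_stalkOver (M : X.Modules) (x : X) :
    FlatMod.IsFlatOverAt f M x ↔ Module.Flat (S.presheaf.stalk (f.base x)) ((DerSch.stalkOver f x).obj M) :=
  RelTor.flatOverAt_iff f M x

theorem hasTorAmplitude_of_flat_terms (E : CochainComplex X.Modules ℤ) (a b : ℤ)
    (hab : DCoh.VanishesOutside E a b) (hfl : ∀ i : ℤ, FlatMod.IsFlatOver f (E.X i)) :
    DerSch.HasTorAmplitude f a b E := fun x =>
  ⟨(DerSch.stalkCxOver f x).obj E, fun i hi => (DerSch.stalkOver f x).map_isZero (hab i hi),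
    fun i => (flat_stalkOver f _ x).1 (hfl i x), ⟨Iso.refl _⟩⟩

theorem hasTorAmplitude_single (M : X.Modules) (hfl : FlatMod.IsFlatOver f M) :
    DerSch.HasTorAmplitude f 0 0 ((HomologicalComplex.single _ (ComplexShape.up ℤ) 0).obj M) := by
  refine hasTorAmplitude_of_flat_terms f _ 0 0 (fun i hi => HomologicalComplex.isZero_single_obj_X _ 0 M i (by omega))
    fun i => ?_
  intro x
  rw [flat_stalkOver]
  by_cases hi : i = 0
  · subst hi
    exact (Module.Flat.equiv_iff ((DerSch.stalkOver f x).mapIso
      (HomologicalComplex.singleObjXSelf (ComplexShape.up ℤ) 0 M)).toLinearEquiv).2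
      ((flat_stalkOver f M x).1 (hfl x))
  · have : Subsingleton ((DerSch.stalkOver f x).obj
        (((HomologicalComplex.single X.Modules (ComplexShape.up ℤ) 0).obj M).X i)) :=
      ModuleCat.subsingleton_of_isZero ((DerSch.stalkOver f x).map_isZero
        (HomologicalComplex.isZero_single_obj_X _ 0 M i hi))
    infer_instance

theorem isFlatOver_of_torAmplitude_single (M : X.Modules)
    (h : DerSch.HasTorAmplitude f 0 0 ((HomologicalComplex.single _ (ComplexShape.up ℤ) 0).obj M)) :
    FlatMod.IsFlatOver f M := by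
  intro x
  rw [flat_stalkOver]
  obtain ⟨E, hz, hf, ⟨e⟩⟩ := h x
  let e' : DRing.toD E ≅ Dual.inD (S.presheaf.stalk (f.base x)) ((DerSch.stalkOver f x).obj M) :=
    e ≪≫ DerivedCategory.Q.mapIso
      ((HomologicalComplex.singleMapHomologicalComplex (DerSch.stalkOver f x) (ComplexShape.up ℤ) 0).app M) ≪≫
      ((DerivedCategory.singleFunctorIsoCompQ _ 0).app _).symm
  exact H9Misc.DRingTor.flat_of_inD _ ⟨E, hz, hf, ⟨e'⟩⟩

theorem isFlatOver_structure_iff :
    FlatMod.IsFlatOver f (Coh.structureModule X) ↔ Flat f := by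
  refine ⟨fun h => ?_, fun _ => H26.FibModel.isFlatOver_structureModule f⟩
  rw [HasRingHomProperty.iff_appLE (P := @Flat)]
  intro V U hle
  have := (QCoh.isFlatOver_iff f (PnCoh.isQCoh_structureModule X)).1 h U V hle U.2 V.2
  exact this

end Groth.Agent.KSixRel
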