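import Groth.Agent.KFlatLib.Scheme.ClosedPush
import Groth.Agent.QCoh.Stalk
import Groth.Prelude.Def_DerSch2

/-!
# Stalks over the base of direct images along closed immersions
-/

set_option autoImplicit false
set_option linter.style.haveILetI false
set_option backward.isDefEq.respectTransparency false
set_option backward.isDefEq.respectTransparency.types false

universe u

open CategoryTheory CategoryTheory.Limits AlgebraicGeometry TopologicalSpace Opposite

namespace Groth.Agent.KSixRel

open KFlatLib

variable {X P S : Scheme.{u}} (i : X ⟶ P) [IsClosedImmersion i] (g : P ⟶ S)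

/-- The comparison of stalks, as an additive equivalence. -/
noncomputable def pushStalkAddEquiv (M : X.Modules) (x : X) :
    ((DerSch.stalkOver g (i x)).obj ((Scheme.Modules.pushforward i).obj M) : Type u) ≃+
      ((DerSch.stalkOver (i ≫ g) x).obj M : Type u) :=
  haveI := KFlatLib.isIso_stalkPushforward_closed i M x
  (asIso (TopCat.Presheaf.stalkPushforward Ab.{u} i.base M.presheaf x)).addCommGroupIsoToAddEquiv

theorem pushStalkAddEquiv_smul (M : X.Modules) (x : X) (a : S.presheaf.stalk (g (i x)))
    (m : ((DerSch.stalkOver g (i x)).obj ((Scheme.Modules.pushforward i).obj M) : Type u)) :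
    pushStalkAddEquiv i g M x (a • m) = a • pushStalkAddEquiv i g M x m := by
  let N := (Scheme.Modules.pushforward i).obj M
  haveI := KFlatLib.isIso_stalkPushforward_closed i M x
  let e : N.presheaf.stalk (i x) ≃+ M.presheaf.stalk x :=
    (asIso (TopCat.Presheaf.stalkPushforward Ab.{u} i.base M.presheaf x)).addCommGroupIsoToAddEquiv
  have hsmul : ∀ (c : P.presheaf.stalk (i x)) (n : N.presheaf.stalk (i x)),
      e (c • n) = (i.stalkMap x).hom c • e n := by
    intro c n
    obtain ⟨U, hU, b, rfl⟩ := P.presheaf.exists_germ_eq (x := i x) c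
    obtain ⟨V, hV, v, rfl⟩ := N.presheaf.exists_germ_eq n
    have hW : i x ∈ U ⊓ V := ⟨hU, hV⟩
    rw [← P.presheaf.germ_res_apply (homOfLE inf_le_left : U ⊓ V ⟶ U) (i x) hW b,
      ← N.presheaf.germ_res_apply (homOfLE inf_le_right : U ⊓ V ⟶ V) (i x) hW v]
    generalize P.presheaf.map (homOfLE inf_le_left : U ⊓ V ⟶ U).op b = b'
    generalize N.presheaf.map (homOfLE inf_le_right : U ⊓ V ⟶ V).op v = v'
    have he : ∀ w : Γ(N, U ⊓ V), e (N.presheaf.germ (U ⊓ V) (i x) hW w) =
        M.presheaf.germ (i ⁻¹ᵁ (U ⊓ V)) x hW w := fun w =>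
      congrArg (fun φ => φ w) (TopCat.Presheaf.stalkPushforward_germ Ab.{u} i.base M.presheaf (U ⊓ V) x hW)
    rw [← QCoh.germ_smul' N hW, he, he]
    refine (QCoh.germ_smul' M (show x ∈ i ⁻¹ᵁ (U ⊓ V) from hW) (i.app _ b') v').trans ?_
    exact congrArg (fun t => t • M.presheaf.germ (i ⁻¹ᵁ (U ⊓ V)) x hW v')
      (Scheme.Hom.germ_stalkMap_apply i (U ⊓ V) x hW b').symm
  refine (hsmul ((g.stalkMap (i x)).hom a) m).trans ?_
  show (i.stalkMap x).hom ((g.stalkMap (i x)).hom a) • (e m : M.presheaf.stalk x) =
    ((i ≫ g).stalkMap x).hom a • (e m : M.presheaf.stalk x)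
  rw [Scheme.Hom.stalkMap_comp]
  rfl

/-- The comparison of stalks over the base. -/
noncomputable def pushStalkOverIso (x : X) :
    Scheme.Modules.pushforward i ⋙ DerSch.stalkOver g (i x) ≅ DerSch.stalkOver (i ≫ g) x :=
  NatIso.ofComponents
    (fun M => LinearEquiv.toModuleIso
      (X₁ := ((DerSch.stalkOver g (i x)).obj ((Scheme.Modules.pushforward i).obj M) : Type u))
      (X₂ := ((DerSch.stalkOver (i ≫ g) x).obj M : Type u))
      { pushStalkAddEquiv i g M x with map_smul' := pushStalkAddEquiv_smul i g M x })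
    fun {M N} φ => ModuleCat.hom_ext (LinearMap.ext fun m =>
      ConcreteCategory.congr_hom
        (stalkPushforward_naturality' i.base ((toAb X ⋙ TopCat.Sheaf.forget _ _).map φ) x) m)

/-- The comparison for complexes. -/
theorem nonempty_stalkCxOver_push (F : CochainComplex X.Modules ℤ) (x : X) :
    Nonempty ((DerSch.stalkCxOver g (i x)).obj ((DerSch.pushCx i).obj F) ≅ (DerSch.stalkCxOver (i ≫ g) x).obj F) :=
  ⟨HomologicalComplex.Hom.isoOfComponents (fun n => (pushStalkOverIso i g x).app (F.X n))
    fun p q _ => ((pushStalkOverIso i g x).hom.naturality (F.d p q)).symm⟩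

end Groth.Agent.KSixRel
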