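import Groth.Agent.KSixRel.AmpSmooth
import Groth.Agent.KSixRel.AmpTerms
import Groth.Agent.KSixRel.PushStalk
import Groth.Agent.KFlatLib.Scheme.StalkTorAmpId
import Groth.Agent.RelPC17.JacFibre
import Groth.Agent.AlgSpDec.SmoothLocDim

/-!
# Tor amplitude along smooth morphisms and closed immersions
-/

set_option autoImplicit false
set_option linter.style.haveILetI false
set_option backward.isDefEq.respectTransparency false
set_option backward.isDefEq.respectTransparency.types false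

universe u

open CategoryTheory CategoryTheory.Limits AlgebraicGeometry

attribute [local instance] HasDerivedCategory.standard

namespace Groth.Agent.KSixRel

open KFlatLib RelPC17 H9Misc.DRingTor

variable {X X' Y : Scheme.{u}}

theorem hasTorDimLE_zero_of_flat (f : X' ⟶ Y) [Flat f] : DerSch.HasTorDimLE f 0 := by
  intro x
  exact mono (by simp) le_rfl (hasTorAmplitude_single f _ ((isFlatOver_structure_iff f).2 ‹Flat f›) x)

/-- The stalks of a direct image along a closed immersion, over the base. -/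
theorem hasTorAmplitude_push_iff (i : X ⟶ X') [IsClosedImmersion i] (f' : X' ⟶ Y)
    (F : CochainComplex X.Modules ℤ) (a b : ℤ) :
    DerSch.HasTorAmplitude f' a b ((DerSch.pushCx i).obj F) ↔ DerSch.HasTorAmplitude (i ≫ f') a b F := by
  constructor
  · intro h x
    obtain ⟨es⟩ := nonempty_stalkCxOver_push i f' F x
    exact of_iso (DerivedCategory.Q.mapIso es) (h (i x))
  · intro h y
    by_cases hy : y ∈ Set.range i.base
    · obtain ⟨x, rfl⟩ := hy
      obtain ⟨es⟩ := nonempty_stalkCxOver_push i f' F x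
      exact of_iso (DerivedCategory.Q.mapIso es.symm) (h x)
    · refine ⟨(DerSch.stalkCxOver f' y).obj ((DerSch.pushCx i).obj F), fun n _ => ?_, fun n => ?_, ⟨Iso.refl _⟩⟩
      · exact @ModuleCat.isZero_of_subsingleton _ _ _
          (AddCommGrpCat.subsingleton_of_isZero (KFlatLib.isZero_stalk_push i y hy (F.X n)) :)
      · have : Subsingleton (((DerSch.stalkCxOver f' y).obj ((DerSch.pushCx i).obj F)).X n) :=
          (AddCommGrpCat.subsingleton_of_isZero (KFlatLib.isZero_stalk_push i y hy (F.X n)) :)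
        infer_instance

/-- Along a smooth morphism of relative dimension at most `d`, amplitude over the base gives amplitude over the
source, losing `d`. -/
theorem hasTorAmplitude_id_of_smooth (f' : X' ⟶ Y) (d : ℕ)
    (hd : ∀ x : X', ∃ (n : ℕ) (V : X'.Opens), n ≤ d ∧ x ∈ V ∧ SmoothOfRelativeDimension n (V.ι ≫ f'))
    (G : CochainComplex X'.Modules ℤ) (a b : ℤ) (hG : DerSch.HasTorAmplitude f' a b G) :
    DerSch.HasTorAmplitude (𝟙 X') (a - d) b G := by
  intro x
  obtain ⟨n, V, hn, hx, hs⟩ := hd x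
  obtain ⟨v, rfl⟩ : ∃ v : V, V.ι.base v = x := ⟨⟨x, hx⟩, rfl⟩
  refine (JacFibre.hasTorAmplitudeAt_pullCx_iff V.ι (𝟙 X') G v (a - d) b).2 ?_
  have h₁ := (JacFibre.hasTorAmplitudeAt_pullCx_iff V.ι f' G v a b).1 (hG _)
  let G' := (pullCx V.ι).obj G
  let K := (stalkCx v).obj G'
  have h₂ : DRing.HasTorAmplitudeIn (Y.presheaf.stalk ((V.ι ≫ f') v)) a b
      (DRing.toD ((DRing.restrictCx ((V.ι ≫ f').stalkMap v).hom).obj K)) :=
    of_iso (DerivedCategory.Q.mapIso
      ((Functor.mapHomologicalComplexCompIso (F := DerSch.stalkFunctor (V : Scheme.{u}) v)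
        (G := ModuleCat.restrictScalars ((V.ι ≫ f').stalkMap v).hom) (Iso.refl (DerSch.stalkOver (V.ι ≫ f') v))
          (ComplexShape.up ℤ)).app G').symm) h₁
  have h₃ := mono (show a - (d : ℤ) ≤ a - n by omega) le_rfl
    (amp_stalk_of_smoothOfRelativeDimension (V.ι ≫ f') n v a b K h₂)
  exact of_iso (DerivedCategory.Q.mapIso
    ((Functor.mapHomologicalComplexCompIso (F := DerSch.stalkFunctor (V : Scheme.{u}) v)
      (G := ModuleCat.restrictScalars ((V.ι ≫ 𝟙 X').stalkMap v).hom) (Iso.refl (DerSch.stalkOver (V.ι ≫ 𝟙 X') v))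
        (ComplexShape.up ℤ)).app G'))
    (amp_res_flat _ (Flat.stalkMap (V.ι ≫ 𝟙 X') v) K h₃)

/-- Locally a smooth morphism has a constant relative dimension. -/
theorem exists_opens_smoothOfRelativeDimension (f' : X' ⟶ Y) [Smooth f'] (x : X') :
    ∃ (n : ℕ) (V : X'.Opens), x ∈ V ∧ SmoothOfRelativeDimension n (V.ι ≫ f') := by
  obtain ⟨V, j, v, n, hj, hv, hn⟩ := AlgSpDec.SmoothLocDim.exists_smoothOfRelativeDimension_nhd f' x
  refine ⟨n, j.opensRange, ⟨v, hv⟩, ?_⟩
  have he : j.opensRange.ι = j.isoOpensRange.inv ≫ j := by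
    rw [Iso.eq_inv_comp, Scheme.Hom.isoOpensRange_hom_ι]
  rw [he, Category.assoc, ← Nat.zero_add n]
  exact smoothOfRelativeDimension_comp (n := 0) (m := n) _ _

/-- Finite amplitude over the base near the points of the source gives finite flat amplitude on the target. -/
theorem locHasFiniteTorDim_push (i : X ⟶ X') [IsClosedImmersion i] (f' : X' ⟶ Y) [Smooth f']
    (F : CochainComplex X.Modules ℤ) (hF : DerSch.LocFiniteTorAmplitude (i ≫ f') F) :
    DCoh.LocHasFiniteTorDim (DCoh.toD X' ((DerSch.pushCx i).obj F)) := by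
  intro y
  obtain ⟨n, W, hyW, hW⟩ := exists_opens_smoothOfRelativeDimension f' y
  obtain ⟨O, a, b, hyO, hO⟩ : ∃ (O : X'.Opens) (a b : ℤ), y ∈ O ∧
      ∀ z ∈ O, DerSch.HasTorAmplitudeAt f' a b ((DerSch.pushCx i).obj F) z := by
    have hout : ∀ (a b : ℤ) (z : X'), z ∉ Set.range i.base →
        DerSch.HasTorAmplitudeAt f' a b ((DerSch.pushCx i).obj F) z := fun a b z hz => by
      refine ⟨(DerSch.stalkCxOver f' z).obj ((DerSch.pushCx i).obj F), fun n _ => ?_, fun n => ?_, ⟨Iso.refl _⟩⟩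
      · exact @ModuleCat.isZero_of_subsingleton _ _ _
          (AddCommGrpCat.subsingleton_of_isZero (KFlatLib.isZero_stalk_push i z hz (F.X n)) :)
      · have : Subsingleton (((DerSch.stalkCxOver f' z).obj ((DerSch.pushCx i).obj F)).X n) :=
          (AddCommGrpCat.subsingleton_of_isZero (KFlatLib.isZero_stalk_push i z hz (F.X n)) :)
        infer_instance
    by_cases hy : y ∈ Set.range i.base
    · obtain ⟨x, rfl⟩ := hy
      obtain ⟨V, a, b, hxV, hV⟩ := hF x
      obtain ⟨O, hOo, hOV⟩ := i.isClosedEmbedding.isInducing.isOpen_iff.1 V.isOpen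
      refine ⟨⟨O, hOo⟩, a, b, (Set.ext_iff.1 hOV x).2 hxV, fun z hz => ?_⟩
      by_cases hzr : z ∈ Set.range i.base
      · obtain ⟨x', rfl⟩ := hzr
        obtain ⟨es⟩ := nonempty_stalkCxOver_push i f' F x'
        exact of_iso (DerivedCategory.Q.mapIso es.symm) (hV x' ((Set.ext_iff.1 hOV x').1 hz))
      · exact hout a b z hzr
    · exact ⟨⟨(Set.range i.base)ᶜ, i.isClosedEmbedding.isClosed_range.isOpen_compl⟩, 0, 0, hy,
        fun z hz => hout 0 0 z hz⟩
  let V := W ⊓ O
  refine ⟨V, a - n, b, ⟨hyW, hyO⟩, fun F' ⟨e⟩ => ?_⟩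
  haveI hVs : SmoothOfRelativeDimension n (V.ι ≫ f') := by
    rw [← Scheme.homOfLE_ι X' (inf_le_left : V ≤ W), Category.assoc, ← Nat.zero_add n]
    exact smoothOfRelativeDimension_comp (n := 0) (m := n) _ _
  let G := (DerSch.pushCx i).obj F
  have hG : DerSch.HasTorAmplitude (V.ι ≫ f') a b ((pullCx V.ι).obj G) := fun v =>
    (JacFibre.hasTorAmplitudeAt_pullCx_iff V.ι f' G v a b).1 (hO _ v.2.2)
  have hid := hasTorAmplitude_id_of_smooth (V.ι ≫ f') n
    (fun v => ⟨n, ⊤, le_rfl, trivial, by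
      rw [← Nat.zero_add n]; exact smoothOfRelativeDimension_comp (n := 0) (m := n) _ _⟩) _ a b hG
  obtain ⟨E, hv, hf, ⟨eE⟩⟩ := flatAmplitude_of_hasTorAmplitude_id hid
  exact ⟨E, hv, hf, ⟨eE ≪≫ DerivedCategory.Q.mapIso
    ((NatIso.mapHomologicalComplex (Scheme.Modules.restrictFunctorIsoPullback V.ι) (ComplexShape.up ℤ)).app G).symm ≪≫
    ((rhoQ V.ι).app G).symm ≪≫ (rho V.ι).mapIso e.symm ≪≫ (rhoQ V.ι).app F'⟩⟩

/-- Flat amplitude on the target gives amplitude over the base. -/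
theorem hasTorAmplitude_of_flatAmplitude_push (i : X ⟶ X') [IsClosedImmersion i] (f' : X' ⟶ Y) [Flat f']
    (F : CochainComplex X.Modules ℤ) (a b : ℤ)
    (hF : DCoh.HasFlatAmplitudeIn a b (DCoh.toD X' ((DerSch.pushCx i).obj F))) :
    DerSch.HasTorAmplitude (i ≫ f') a b F := by
  have h := hasTorAmplitude_comp (𝟙 X') f' 0 (hasTorDimLE_zero_of_flat f') _ a b
    (hasTorAmplitude_id_of_flatAmplitude hF)
  rw [Category.id_comp] at h
  exact (hasTorAmplitude_push_iff i f' F a b).1 (fun x => mono (by simp) le_rfl (h x))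

/-- Finite flat amplitude on the target gives finite amplitude over the base. -/
theorem locFiniteTorAmplitude_of_locHasFiniteTorDim_push (i : X ⟶ X') [IsClosedImmersion i] (f' : X' ⟶ Y) [Flat f']
    (F : CochainComplex X.Modules ℤ)
    (hF : DCoh.LocHasFiniteTorDim (DCoh.toD X' ((DerSch.pushCx i).obj F))) :
    DerSch.LocFiniteTorAmplitude (i ≫ f') F := by
  intro x
  obtain ⟨V, a, b, hx, hV⟩ := hF (i x)
  obtain ⟨E, hv, hf, ⟨eE⟩⟩ := hV _ ⟨Iso.refl _⟩
  refine ⟨i ⁻¹ᵁ V, a, b, hx, fun x' hx' => ?_⟩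
  let G := (DerSch.pushCx i).obj F
  have hid : DerSch.HasTorAmplitude (𝟙 (V : Scheme.{u})) a b ((pullCx V.ι).obj G) :=
    hasTorAmplitude_id_of_flatAmplitude ⟨E, hv, hf, ⟨eE ≪≫ DerivedCategory.Q.mapIso
      ((NatIso.mapHomologicalComplex (Scheme.Modules.restrictFunctorIsoPullback V.ι) (ComplexShape.up ℤ)).app G)⟩⟩
  have h := hasTorAmplitude_comp (𝟙 (V : Scheme.{u})) (V.ι ≫ f') 0 (hasTorDimLE_zero_of_flat _) _ a b hid
  rw [Category.id_comp] at h
  have h' := (JacFibre.hasTorAmplitudeAt_pullCx_iff V.ι f' G ⟨i.base x', hx'⟩ a b).2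
    (mono (by simp) le_rfl (h ⟨i.base x', hx'⟩))
  obtain ⟨es⟩ := nonempty_stalkCxOver_push i f' F x'
  exact of_iso (DerivedCategory.Q.mapIso es) h'

end Groth.Agent.KSixRel
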