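import Mathlib.AlgebraicGeometry.Morphisms.Flat
import Mathlib.AlgebraicGeometry.Morphisms.Preimmersion

/-!
# Local rings of fibre products are flat over the tensor product of the local rings
-/

set_option autoImplicit false
set_option linter.style.haveILetI false
set_option backward.isDefEq.respectTransparency false
set_option backward.isDefEq.respectTransparency.types false

universe u

open CategoryTheory CategoryTheory.Limits AlgebraicGeometry

namespace Groth.Agent.KSixRel

/-- A map to a ring which is the localisation inverting what it inverts is flat. -/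
theorem flat_of_localisation_fac {T C L : CommRingCat.{u}} (M : Submonoid T) (j : T ⟶ L)
    (hloc : letI := j.hom.toAlgebra; IsLocalization M L) (σ : T ⟶ C)
    (hunit : ∀ y : M, IsUnit (σ.hom y)) (u : C ⟶ L) (h₁ : σ ≫ u = j)
    (huniq : ∀ e : C ⟶ C, σ ≫ e = σ → e = 𝟙 C) : σ.hom.Flat := by
  letI := j.hom.toAlgebra
  haveI : IsLocalization M L := hloc
  let s : L ⟶ C := CommRingCat.ofHom (IsLocalization.lift hunit)
  have hs : j ≫ s = σ := CommRingCat.hom_ext (IsLocalization.lift_comp hunit)
  have hsu : s ≫ u = 𝟙 L := CommRingCat.hom_ext (IsLocalization.ringHom_ext M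
    (congrArg CommRingCat.Hom.hom (show j ≫ s ≫ u = j ≫ 𝟙 L by
      rw [← Category.assoc, hs, h₁, Category.comp_id])))
  have hus : u ≫ s = 𝟙 C := huniq _ (by rw [← Category.assoc, h₁, hs])
  haveI : IsIso s := ⟨u, hsu, hus⟩
  have hjf : j.hom.Flat := IsLocalization.flat L M
  rw [← hs]
  exact RingHom.Flat.comp hjf (RingHom.Flat.of_bijective (ConcreteCategory.bijective_of_isIso s))

/-- The stalk at a point of a monomorphism from an affine scheme through which the spectrum of the local
ring factors is a localisation, so flat. -/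
theorem flat_of_mono_fac {P : Scheme.{u}} {T : CommRingCat.{u}} (Φ : Spec T ⟶ P) [Mono Φ] (z : P)
    (σ : T ⟶ P.presheaf.stalk z) (h : Spec.map σ ≫ Φ = P.fromSpecStalk z) : σ.hom.Flat := by
  let q : Spec T := Spec.map σ (IsLocalRing.closedPoint _)
  have hz : Φ q = z := by
    rw [← Scheme.Hom.comp_apply, h, Scheme.fromSpecStalk_closedPoint]
  let u := P.presheaf.stalkSpecializes (specializes_of_eq hz) ≫ Φ.stalkMap q
  have hu : Spec.map u ≫ P.fromSpecStalk z = (Spec T).fromSpecStalk q ≫ Φ := by
    rw [Spec.map_comp, Category.assoc, Scheme.SpecMap_stalkSpecializes_fromSpecStalk,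
      Scheme.SpecMap_stalkMap_fromSpecStalk]
  refine flat_of_localisation_fac q.asIdeal.primeCompl (StructureSheaf.toStalk T q)
    (StructureSheaf.IsLocalization.to_stalk T q) σ (fun y => IsLocalRing.notMem_maximalIdeal.1 y.2) u ?_ ?_
  · refine Spec.map_injective ((cancel_mono Φ).1 ?_)
    rw [Spec.map_comp, Category.assoc, h, hu, Spec.fromSpecStalk_eq' T q]
  · intro e he
    refine Spec.map_injective ((cancel_mono (P.fromSpecStalk z)).1 ?_)
    rw [← h, ← Category.assoc, ← Spec.map_comp, he, Spec.map_id, Category.id_comp]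

variable {X Y Y' : Scheme.{u}} (f : X ⟶ Y) (h : Y' ⟶ Y)

/-- The map of local rings at the bottom of the square. -/
noncomputable def botMap (z : ↥(pullback f h)) :
    Y.presheaf.stalk (h (pullback.snd f h z)) ⟶ X.presheaf.stalk (pullback.fst f h z) :=
  Y.presheaf.stalkSpecializes (specializes_of_eq
    (congr($((pullback.condition (f := f) (g := h))) z) : f (pullback.fst f h z) = h (pullback.snd f h z))) ≫
    f.stalkMap (pullback.fst f h z)

theorem botMap_comm (z : ↥(pullback f h)) :
    botMap f h z ≫ (pullback.fst f h).stalkMap z =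
      h.stalkMap (pullback.snd f h z) ≫ (pullback.snd f h).stalkMap z := by
  rw [botMap, Category.assoc, ← Scheme.Hom.stalkMap_comp, ← Scheme.Hom.stalkMap_comp,
    Scheme.Hom.stalkMap_congr_hom _ _ (pullback.condition (f := f) (g := h))]
  simp

/-- The comparison from the pushout of the local rings. -/
noncomputable def pushoutToStalk (z : ↥(pullback f h)) :
    pushout (h.stalkMap (pullback.snd f h z)) (botMap f h z) ⟶ (pullback f h).presheaf.stalk z :=
  pushout.desc ((pullback.snd f h).stalkMap z) ((pullback.fst f h).stalkMap z) (botMap_comm f h z).symm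

theorem flat_pushoutToStalk (z : ↥(pullback f h)) : (pushoutToStalk f h z).hom.Flat := by
  let x := pullback.fst f h z
  let y := pullback.snd f h z
  let a := h.stalkMap y
  let ψ := botMap f h z
  let sq := isPullback_SpecMap_pushout a ψ
  have e₁ : Spec.map ψ ≫ Y.fromSpecStalk (h y) = X.fromSpecStalk x ≫ f := by
    show Spec.map (botMap f h z) ≫ _ = _
    rw [botMap, Spec.map_comp, Category.assoc, Scheme.SpecMap_stalkSpecializes_fromSpecStalk,
      Scheme.SpecMap_stalkMap_fromSpecStalk]
  have e₂ : Spec.map a ≫ Y.fromSpecStalk (h y) = Y'.fromSpecStalk y ≫ h :=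
    Scheme.SpecMap_stalkMap_fromSpecStalk _
  let Φ : Spec (pushout a ψ) ⟶ pullback f h :=
    pullback.lift (Spec.map (pushout.inr a ψ) ≫ X.fromSpecStalk x) (Spec.map (pushout.inl a ψ) ≫ Y'.fromSpecStalk y) (by
      rw [Category.assoc, Category.assoc, ← e₁, ← e₂, ← Category.assoc, ← Category.assoc, sq.w])
  haveI : Mono Φ := ⟨fun {Z} p q hpq => by
    apply sq.hom_ext
    · rw [← cancel_mono (Y'.fromSpecStalk y)]
      simpa [Φ, pullback.lift_snd] using congr($hpq ≫ pullback.snd f h)
    · rw [← cancel_mono (X.fromSpecStalk x)]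
      simpa [Φ, pullback.lift_fst] using congr($hpq ≫ pullback.fst f h)⟩
  refine flat_of_mono_fac Φ z (pushoutToStalk f h z) ?_
  apply pullback.hom_ext
  · rw [Category.assoc, pullback.lift_fst, ← Category.assoc, ← Spec.map_comp,
      ← Scheme.SpecMap_stalkMap_fromSpecStalk, pushoutToStalk, pushout.inr_desc]
  · rw [Category.assoc, pullback.lift_snd, ← Category.assoc, ← Spec.map_comp,
      ← Scheme.SpecMap_stalkMap_fromSpecStalk, pushoutToStalk, pushout.inl_desc]

end Groth.Agent.KSixRel
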