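import Groth.Agent.KSixRel.AmpLpull
import Groth.Agent.KSixRel.StalkPushout
import Groth.Agent.RelPC17.NilpBase
import Groth.Agent.RelPC17.AmpWEt

/-!
# Tor amplitude and flat base change
-/

set_option autoImplicit false
set_option linter.style.haveILetI false
set_option backward.isDefEq.respectTransparency false
set_option backward.isDefEq.respectTransparency.types false

universe u

open CategoryTheory CategoryTheory.Limits AlgebraicGeometry TensorProduct

attribute [local instance] HasDerivedCategory.standard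

namespace Groth.Agent.KSixRel

open KFlatLib RelPC17

/-- Extension along a flat map preserves tor amplitude. -/
theorem amp_extend_flat {A B : Type u} [CommRing A] [CommRing B] (φ : A →+* B) (hφ : φ.Flat) (a b : ℤ)
    (K : DRing.Cx A) (h : DRing.HasTorAmplitudeIn A a b (DRing.toD K)) :
    DRing.HasTorAmplitudeIn B a b (DRing.toD
      (((ModuleCat.extendScalars φ).mapHomologicalComplex (ComplexShape.up ℤ)).obj K)) := by
  haveI := ModuleCat.preservesFiniteLimits_extendScalars_of_flat hφ
  haveI : (ModuleCat.extendScalars.{u, u, u} φ).IsLeftAdjoint :=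
    (ModuleCat.extendRestrictScalarsAdj φ).isLeftAdjoint
  haveI : (ModuleCat.extendScalars.{u, u, u} φ).Additive :=
    (ModuleCat.extendRestrictScalarsAdj φ).left_adjoint_additive
  haveI : PreservesFiniteColimits (ModuleCat.extendScalars.{u, u, u} φ) := inferInstance
  obtain ⟨E, hv, hf, ⟨e⟩⟩ := h
  refine ⟨((ModuleCat.extendScalars φ).mapHomologicalComplex (ComplexShape.up ℤ)).obj E,
    fun i hi => (ModuleCat.extendScalars φ).map_isZero (hv i hi), fun i => ?_,
    ⟨((ModuleCat.extendScalars φ).mapDerivedCategoryFactors.app E).symm ≪≫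
      (ModuleCat.extendScalars φ).mapDerivedCategory.mapIso e ≪≫
      (ModuleCat.extendScalars φ).mapDerivedCategoryFactors.app K⟩⟩
  letI := φ.toAlgebra
  haveI := hf i
  exact inferInstanceAs (Module.Flat B (B ⊗[A] (E.X i)))

/-- On a pushout square the two composites of restriction and extension agree. -/
theorem isIso_sqCmp_of_isPushout {A B O T : CommRingCat.{u}} {a : A ⟶ B} {ψ : A ⟶ O} {inl : B ⟶ T} {inr : O ⟶ T}
    (h : IsPushout a ψ inl inr) (hsq : inr.hom.comp ψ.hom = inl.hom.comp a.hom) (M : ModuleCat.{u} O) :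
    IsIso (sqCmp ψ.hom a.hom inr.hom inl.hom hsq M) := by
  letI := a.hom.toAlgebra
  letI := ψ.hom.toAlgebra
  letI := inl.hom.toAlgebra
  letI := inr.hom.toAlgebra
  letI : Algebra A T := (inl.hom.comp a.hom).toAlgebra
  haveI : IsScalarTower A B T := IsScalarTower.of_algebraMap_eq' rfl
  haveI : IsScalarTower A O T := IsScalarTower.of_algebraMap_eq' hsq.symm
  haveI : Algebra.IsPushout A B O T := CommRingCat.isPushout_iff_isPushout.1 h
  letI : Module A M := Module.compHom M ψ.hom
  haveI : IsScalarTower A O M := IsScalarTower.of_algebraMap_smul fun _ _ => rfl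
  rw [ConcreteCategory.isIso_iff_bijective]
  let e := (Algebra.IsPushout.cancelBaseChange A B O T M).symm
  have key : ∀ z : B ⊗[A] M, (sqCmp ψ.hom a.hom inr.hom inl.hom hsq M).hom z = e z := by
    intro z
    induction z using TensorProduct.induction_on with
    | zero => exact (map_zero (sqCmp ψ.hom a.hom inr.hom inl.hom hsq M).hom).trans (map_zero e).symm
    | add z w hz hw =>
      exact (map_add (sqCmp ψ.hom a.hom inr.hom inl.hom hsq M).hom z w).trans
        ((congrArg₂ (· + ·) hz hw).trans (map_add e z w).symm)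
    | tmul b m =>
      have h1 : (b ⊗ₜ[A] m : B ⊗[A] M) = b • ((1 : B) ⊗ₜ[A] m) := by
        rw [TensorProduct.smul_tmul', smul_eq_mul, mul_one]
      rw [h1]
      refine ((sqCmp ψ.hom a.hom inr.hom inl.hom hsq M).hom.map_smul b _).trans ?_
      refine Eq.trans ?_ (e.map_smul b _).symm
      have h2 : (sqCmp ψ.hom a.hom inr.hom inl.hom hsq M).hom ((1 : B) ⊗ₜ[A] m) =
          ((ModuleCat.extendRestrictScalarsAdj inr.hom).unit.app M).hom m :=
        sqCmp_unit ψ.hom a.hom inr.hom inl.hom hsq M m
      rw [h2, Algebra.IsPushout.cancelBaseChange_symm_tmul, map_one]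
      show inl.hom b • ((1 : T) ⊗ₜ[O] m : T ⊗[O] M) = b • ((1 : T) ⊗ₜ[O] m : T ⊗[O] M)
      rw [TensorProduct.smul_tmul', TensorProduct.smul_tmul', smul_eq_mul]
      rfl
  show Function.Bijective (sqCmp ψ.hom a.hom inr.hom inl.hom hsq M).hom
  rw [show ((sqCmp ψ.hom a.hom inr.hom inl.hom hsq M).hom : _ → _) = e from funext key]
  exact e.bijective

variable {X Y Y' : Scheme.{u}} (f : X ⟶ Y) (h : Y' ⟶ Y)

/-- Tor amplitude is stable under flat base change. -/
theorem hasTorAmplitude_baseChange [Flat h] [DCoh.HasLpull (pullback.fst f h)] (F : CochainComplex X.Modules ℤ)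
    (a b : ℤ) (hF : DerSch.HasTorAmplitude f a b F) (F' : CochainComplex (pullback f h).Modules ℤ)
    (e : DCoh.toD _ F' ≅ (DCoh.Lpull (pullback.fst f h)).obj (DCoh.toD X F)) :
    DerSch.HasTorAmplitude (pullback.snd f h) a b F' := by
  let g := pullback.fst f h
  let P := (kRes X).obj F
  haveI := (flatCover X).quasiIso_ψ F
  haveI := isIso_Q_map ((flatCover X).ψ.app F) inferInstance
  let eP : DCoh.toD X P ≅ DCoh.toD X F := asIso (DerivedCategory.Q.map ((flatCover X).ψ.app F))
  have hP := hasTorAmplitude_of_iso f eP.symm hF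
  refine hasTorAmplitude_of_iso (pullback.snd f h) (F := (pullCx g).obj P)
    ((lpullIso g (isKFlat_kRes F)).symm ≪≫ (DCoh.Lpull g).mapIso eP ≪≫ e.symm) fun z => ?_
  let x := g z
  let y := pullback.snd f h z
  let α : Y.presheaf.stalk (h y) ⟶ Y.presheaf.stalk (f x) := Y.presheaf.stalkSpecializes (specializes_of_eq
    (congr($((pullback.condition (f := f) (g := h))) z) : f x = h y))
  haveI : IsIso α := by
    refine ⟨Y.presheaf.stalkSpecializes (specializes_of_eq
      (congr($((pullback.condition (f := f) (g := h))) z) : f x = h y).symm), ?_, ?_⟩ <;> simp [α]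
  let ψ := botMap f h z
  let am := h.stalkMap y
  let inl := pushout.inl am ψ
  let inr := pushout.inr am ψ
  let σ := pushoutToStalk f h z
  let Px := (stalkCx x).obj P
  have h₁ : DRing.HasTorAmplitudeIn (Y.presheaf.stalk (h y)) a b
      (DRing.toD ((DRing.restrictCx ψ.hom).obj Px)) := by
    letI := α.hom.toAlgebra
    haveI : Module.Flat (Y.presheaf.stalk (h y)) (Y.presheaf.stalk (f x)) :=
      RingHom.Flat.of_bijective (f := α.hom) (ConcreteCategory.bijective_of_isIso α)
    obtain ⟨E, hv, hf, ⟨eE⟩⟩ := amp_restrict_of_flat (A := Y.presheaf.stalk (h y)) _ (hP x)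
    exact ⟨E, hv, hf, ⟨eE ≪≫ (ModuleCat.restrictScalars α.hom).mapDerivedCategoryFactors.app _ ≪≫
      DerivedCategory.Q.mapIso
        ((Functor.mapHomologicalComplexCompIso (F := DerSch.stalkOver f x) (G := ModuleCat.restrictScalars α.hom)
          (Iso.refl (DerSch.stalkOver f x ⋙ ModuleCat.restrictScalars α.hom)) (ComplexShape.up ℤ)).app P ≪≫
        ((Functor.mapHomologicalComplexCompIso (F := DerSch.stalkFunctor X x) (G := ModuleCat.restrictScalars ψ.hom)
          (Functor.isoWhiskerLeft _ (ModuleCat.restrictScalarsComp' α.hom (f.stalkMap x).hom ψ.hom rfl) ≪≫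
            (Functor.associator _ _ _).symm) (ComplexShape.up ℤ)).app P).symm)⟩⟩
  have hsqm : inr.hom.comp ψ.hom = inl.hom.comp am.hom :=
    (congrArg CommRingCat.Hom.hom (pushout.condition (f := am) (g := ψ))).symm
  have h₂ := amp_extend_flat am.hom (Flat.stalkMap h y) a b _ h₁
  haveI := fun M => isIso_sqCmp_of_isPushout (IsPushout.of_hasPushout am ψ) hsqm M
  let P₁ := ((ModuleCat.extendScalars inr.hom).mapHomologicalComplex (ComplexShape.up ℤ)).obj Px
  let θ : ((ModuleCat.extendScalars am.hom).mapHomologicalComplex (ComplexShape.up ℤ)).obj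
        ((DRing.restrictCx ψ.hom).obj Px) ≅ (DRing.restrictCx inl.hom).obj P₁ :=
    HomologicalComplex.Hom.isoOfComponents (fun n => asIso (sqCmp ψ.hom am.hom inr.hom inl.hom hsqm (Px.X n)))
      fun i j _ => (sqCmp_natural ψ.hom am.hom inr.hom inl.hom hsqm (Px.d i j)).symm
  obtain ⟨E₂, hv₂, hf₂, ⟨e₂⟩⟩ := h₂
  have h₃ : DRing.HasTorAmplitudeIn (Y'.presheaf.stalk y) a b (DRing.toD ((DRing.restrictCx inl.hom).obj P₁)) :=
    ⟨E₂, hv₂, hf₂, ⟨e₂ ≪≫ DerivedCategory.Q.mapIso θ⟩⟩
  have hC : DRing.HasTorAmplitudeIn (pushout am ψ : CommRingCat.{u}) (-0) 0 (DerivedCategory.Q.obj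
      ((HomologicalComplex.single (ModuleCat.{u} (pushout am ψ : CommRingCat.{u})) (ComplexShape.up ℤ) 0).obj
        ((ModuleCat.restrictScalars σ.hom).obj (ModuleCat.of _ ((pullback f h).presheaf.stalk z))))) := by
    refine ⟨_, fun i hi => HomologicalComplex.isZero_single_obj_X _ 0 _ i (by omega), fun i => ?_, ⟨Iso.refl _⟩⟩
    by_cases hi : i = 0
    · subst hi
      refine (Module.Flat.equiv_iff (HomologicalComplex.singleObjXSelf (ComplexShape.up ℤ) 0
        ((ModuleCat.restrictScalars σ.hom).obj (ModuleCat.of _ ((pullback f h).presheaf.stalk z)))).toLinearEquiv).2 ?_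
      exact flat_pushoutToStalk f h z
    · have : Subsingleton (((HomologicalComplex.single (ModuleCat.{u} (pushout am ψ : CommRingCat.{u}))
          (ComplexShape.up ℤ) 0).obj
          ((ModuleCat.restrictScalars σ.hom).obj (ModuleCat.of _ ((pullback f h).presheaf.stalk z)))).X i) :=
        ModuleCat.subsingleton_of_isZero (HomologicalComplex.isZero_single_obj_X _ 0 _ i hi)
      infer_instance
  obtain ⟨E, hv, hf, ⟨eE⟩⟩ := amp_extend inl.hom σ.hom P₁
    (kFlat_extendScalars inr.hom ((kFlat_iff_stalk P).1 (isKFlat_kRes F) x)) 0 a b hC h₃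
  have hl : σ.hom.comp inl.hom = ((pullback.snd f h).stalkMap z).hom :=
    congrArg CommRingCat.Hom.hom (pushout.inl_desc _ _ (botMap_comm f h z).symm)
  have hr : (g.stalkMap z).hom = σ.hom.comp inr.hom :=
    (congrArg CommRingCat.Hom.hom (pushout.inr_desc _ _ (botMap_comm f h z).symm)).symm
  let w : ModuleCat.extendScalars (g.stalkMap z).hom ≅
      ModuleCat.extendScalars inr.hom ⋙ ModuleCat.extendScalars σ.hom :=
    eqToIso (congrArg ModuleCat.extendScalars hr) ≪≫ ModuleCat.extendScalarsComp inr.hom σ.hom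
  let u : DerSch.stalkOver (pullback.snd f h) z ≅
      DerSch.stalkFunctor _ z ⋙ ModuleCat.restrictScalars (σ.hom.comp inl.hom) :=
    Functor.isoWhiskerLeft _ (eqToIso (congrArg ModuleCat.restrictScalars hl.symm))
  refine ⟨E, fun i hi => hv i (by omega), hf, ⟨eE ≪≫ DerivedCategory.Q.mapIso
    (((ModuleCat.restrictScalars (σ.hom.comp inl.hom)).mapHomologicalComplex (ComplexShape.up ℤ)).mapIso
      ((Functor.mapHomologicalComplexCompIso (F := ModuleCat.extendScalars inr.hom)
          (G := ModuleCat.extendScalars σ.hom) w.symm (ComplexShape.up ℤ)).app Px ≪≫ (stalkPullCxIso g z P).symm) ≪≫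
      (Functor.mapHomologicalComplexCompIso (F := DerSch.stalkFunctor (pullback f h) z)
        (G := ModuleCat.restrictScalars (σ.hom.comp inl.hom)) u.symm (ComplexShape.up ℤ)).app _)⟩⟩

end Groth.Agent.KSixRel
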