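import Groth.Agent.RelPC17.Module
import Groth.Agent.RelPC17.AffineTilde
import Groth.Agent.RelPC17.Terms
import Groth.Agent.S7212
import Groth.Agent.FlatSyz5.PC
import Groth.Agent.S1004
import Groth.Agent.S2066
import Groth.Agent.QCoh.FlatOver

/-!
# Relatively finitely presented flat modules are relatively pseudo-coherent
-/

set_option autoImplicit false
set_option linter.style.haveILetI false
set_option backward.isDefEq.respectTransparency false
set_option backward.isDefEq.respectTransparency.types false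

universe u

open CategoryTheory CategoryTheory.Limits AlgebraicGeometry

attribute [local instance] HasDerivedCategory.standard

namespace Groth.Agent.KSixRel

open KFlatLib RelPC17

/-- Pseudo-coherence of a finitely presented module, flat over the coefficients of a polynomial ring. -/
theorem locPC_of_flat_fp {R : Type u} [CommRing R] (n : ℕ)
    (N : (Spec (CommRingCat.of (MvPolynomial (Fin n) R))).Modules) (hN : Coh.IsQCoh N)
    (hfp : Module.FinitePresentation (MvPolynomial (Fin n) R)
      ((moduleSpecΓFunctor (R := CommRingCat.of (MvPolynomial (Fin n) R))).obj N))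
    (hfl : letI : Module R ((moduleSpecΓFunctor (R := CommRingCat.of (MvPolynomial (Fin n) R))).obj N) :=
        Module.compHom _ (MvPolynomial.C (σ := Fin n) : R →+* MvPolynomial (Fin n) R)
      Module.Flat R ((moduleSpecΓFunctor (R := CommRingCat.of (MvPolynomial (Fin n) R))).obj N))
    (m : ℤ) : LocPC m (DCoh.inD (Spec (CommRingCat.of (MvPolynomial (Fin n) R))) N) := by
  let P : Type u := MvPolynomial (Fin n) R
  let M := (moduleSpecΓFunctor (R := CommRingCat.of P)).obj N
  letI : Module R M := Module.compHom _ (MvPolynomial.C (σ := Fin n) : R →+* P)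
  haveI : IsScalarTower R P M := IsScalarTower.of_algebraMap_smul fun _ _ => rfl
  haveI : Module.Flat R M := hfl
  haveI : Module.FinitePresentation P M := hfp
  have h := (Groth.Agent.S2066.result _).1.2 (FlatSyz5.pc' R P M) m
  haveI : PreservesFiniteLimits (tilde.functor (CommRingCat.of P)) := QCoh.tilde_preservesFiniteLimits
  haveI : IsIso (Scheme.Modules.fromTildeΓ (R := CommRingCat.of P) N) :=
    (isQuasicoherent_iff_isIso_fromTildeΓ (R := CommRingCat.of P) N).1 hN
  haveI : (tilde.functor (CommRingCat.of P)).Additive := tilde_additive _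
  haveI : PreservesFiniteColimits (tilde.functor (CommRingCat.of P)) := QCoh.tilde_preservesFiniteColimits
  let e : (DCoh.tildeD (CommRingCat.of P)).obj (Dual.inD P M) ≅ DCoh.inD (Spec (CommRingCat.of P)) N :=
    ((tilde.functor (CommRingCat.of P)).mapDerivedCategorySingleFunctor 0).app _ ≪≫
      (DerivedCategory.singleFunctor _ 0).mapIso (asIso (Scheme.Modules.fromTildeΓ (R := CommRingCat.of P) N))
  exact ((isPseudoCoherentD_iff _ _).1 ((Groth.Agent.S1004.result P _ m).2 h)).of_iso e

/-- A module flat over the base and finitely presented relative to it is pseudo-coherent relative to it. -/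
theorem rel_of_flat_fp {X S : Scheme.{u}} (f : X ⟶ S) [LocallyOfFiniteType f] (M : X.Modules)
    (hfl : FlatMod.IsFlatOver f M) (hfp : DerSch.IsPseudoCoherentRel f (-1) (DCoh.inD X M)) (m : ℤ) :
    DerSch.IsPseudoCoherentRel f m (DCoh.inD X M) := by
  obtain ⟨hq, hrel⟩ := (Groth.Agent.S7212.result f M).2.2.1 hfp
  refine rel_iff.2 fun U V hU hV hle n φ hφ => ?_
  haveI := isClosedImmersion_imm hU hφ.1
  intro _
  refine LocPC.of_iso ((pD (imm U φ)).mapIso (rhoInD U.ι M) ≪≫ pDInD (imm U φ) _).symm ?_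
  have hqN := QCoh.isQCoh_pushforward (imm U φ) (QCoh.isQCoh_restrict U.ι hq)
  refine locPC_of_flat_fp n _ hqN ?_ ?_ m
  · letI := (f.appLE V U hle).hom.toAlgebra
    haveI : Algebra.FiniteType Γ(S, V) Γ(X, U) := finiteType_appLE hU hV hle
    let ψ : MvPolynomial (Fin n) Γ(S, V) →ₐ[Γ(S, V)] Γ(X, U) :=
      { φ with commutes' := RingHom.congr_fun hφ.2 }
    exact (QCoh.isFP_iff_finitePresentation _ hqN).1
      ((isFP_push_imm_iff φ (QCoh.isQCoh_restrict _ hq)).2
        ((Groth.Agent.RelFP.rel_iff ψ (RingHom.Finite.of_surjective _ hφ.1)).1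
          (Groth.Agent.RelFP.relFPOn_of_isRelFP (hF := hq) hrel ⟨U, hU⟩ ⟨V, hV⟩ hle)))
  · letI : Module Γ(S, V) Γ(M, U) := Module.compHom _ (f.appLE V U hle).hom
    haveI := (QCoh.isFlatOver_iff f hq).1 hfl U V hle hU hV
    let N := (Scheme.Modules.pushforward (imm U φ)).obj (M.restrict U.ι)
    letI : Module Γ(S, V) ((moduleSpecΓFunctor (R := CommRingCat.of (MvPolynomial (Fin n) Γ(S, V)))).obj N) :=
      Module.compHom _ (MvPolynomial.C (σ := Fin n) : Γ(S, V) →+* MvPolynomial (Fin n) Γ(S, V))
    let i : U ≅ U.ι ''ᵁ ⊤ := eqToIso (Scheme.Opens.ι_image_top U).symm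
    let e : (moduleSpecΓFunctor (R := CommRingCat.of (MvPolynomial (Fin n) Γ(S, V)))).obj N ≃+ Γ(M, U) :=
      (M.presheaf.mapIso i.op).addCommGroupIsoToAddEquiv
    refine Module.Flat.of_linearEquiv ({ e with map_smul' := fun r x => ?_ } :
      (moduleSpecΓFunctor (R := CommRingCat.of (MvPolynomial (Fin n) Γ(S, V)))).obj N ≃ₗ[Γ(S, V)] Γ(M, U))
    show e ((MvPolynomial.C r : MvPolynomial (Fin n) Γ(S, V)) • x) = (f.appLE V U hle).hom r • e x
    rw [← RingHom.congr_fun hφ.2 r]
    change M.presheaf.map i.hom.op ((U.ι.appIso ⊤).inv ((imm U φ).appTop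
      ((Scheme.ΓSpecIso (CommRingCat.of (MvPolynomial (Fin n) Γ(S, V)))).inv (MvPolynomial.C r))) •
        (show Γ(M, U.ι ''ᵁ ⊤) from x)) = _
    rw [QCoh.map_smul']
    congr 1
    simp [imm, Scheme.Opens.toSpecΓ_appTop, Scheme.ΓSpecIso_naturality_assoc, i]
    exact (QCoh.ringMap_map (X := X) _ _ (φ (MvPolynomial.C r))).trans (QCoh.ringMap_id _ _)

/-- A bounded above complex of such modules is pseudo-coherent relative to the base. -/
theorem relAll_of_flat_fp_terms {X S : Scheme.{u}} (f : X ⟶ S) [LocallyOfFiniteType f]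
    (E : CochainComplex X.Modules ℤ) (b : ℤ) (hb : ∀ i : ℤ, b < i → IsZero (E.X i))
    (hfl : ∀ i : ℤ, FlatMod.IsFlatOver f (E.X i))
    (hfp : ∀ i : ℤ, DerSch.IsPseudoCoherentRel f (-1) (DCoh.inD X (E.X i))) :
    DerSch.IsPseudoCoherentRelAll f (DCoh.toD X E) :=
  fun m => rel_of_terms E b m hb fun i => rel_of_flat_fp f (E.X i) (hfl i) (hfp i) _

end Groth.Agent.KSixRel
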