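import Groth.Agent.KSixRel.SpreadPerfect
import Groth.Agent.KSixRel.FlatFP
import Groth.Agent.KSixRel.PushStalk
import Groth.Agent.KSixRel.AmpTerms
import Groth.Agent.RelPC17.Comp
import Groth.Agent.RelPC17.Image
import Groth.Agent.RelPC17.BaseChange
import Groth.Agent.S4863

/-!
# Relative perfect amplitude spreads from a point
-/

set_option autoImplicit false
set_option linter.style.haveILetI false
set_option backward.isDefEq.respectTransparency false
set_option backward.isDefEq.respectTransparency.types false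

universe u

open CategoryTheory CategoryTheory.Limits AlgebraicGeometry

attribute [local instance] HasDerivedCategory.standard

namespace Groth.Agent.KSixRel

open KFlatLib RelPC17 H9Misc.DRingTor

variable {X Y : Scheme.{u}}

/-- Relative pseudo-coherence restricts to open subschemes of the source. -/
theorem rel_restrict {U : Scheme.{u}} (j : U ⟶ X) [IsOpenImmersion j] (f : X ⟶ Y) {m : ℤ} {E : DCoh.D X}
    (hE : DerSch.IsPseudoCoherentRel f m E) : DerSch.IsPseudoCoherentRel (j ≫ f) m ((rho j).obj E) := by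
  haveI := hE.1
  refine rel_of_forall fun W V hW hV h => ?_
  have h' : j ''ᵁ W ≤ f ⁻¹ᵁ V := by
    rintro _ ⟨w, hw, rfl⟩
    exact h hw
  exact (chartOK_image_iff j hW hV h h' m E).2 (chartOK_of_rel hE (hW.image_of_isOpenImmersion _) hV h')

/-- Locally free modules are flat over the base. -/
theorem flat_stalkOver_flf (g : X ⟶ Y) [Flat g] {M : X.Modules} (hM : FlatMod.IsFinLocFree M) (v : X) :
    Module.Flat (Y.presheaf.stalk (g v)) ((DerSch.stalkOver g v).obj M) := by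
  letI := (g.stalkMap v).hom.toAlgebra
  let N : Type u := (DerSch.stalkFunctor X v).obj M
  letI : Module (Y.presheaf.stalk (g v)) N := Module.compHom _ (g.stalkMap v).hom
  haveI : IsScalarTower (Y.presheaf.stalk (g v)) (X.presheaf.stalk v) N :=
    IsScalarTower.of_algebraMap_smul fun _ _ => rfl
  haveI : Module.Flat (Y.presheaf.stalk (g v)) (X.presheaf.stalk v) := Flat.stalkMap g v
  haveI : Module.Free (X.presheaf.stalk v) N := QCoh.free_stalk_of_isFinLocFree hM v
  exact Module.Flat.trans (Y.presheaf.stalk (g v)) (X.presheaf.stalk v) N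

/-- Finite presentation is invariant under isomorphism. -/
theorem fp_of_iso {M N : X.Modules} (e : M ≅ N) (h : CohB1.IsFP M) : CohB1.IsFP N :=
  isFP_of_free fun x => by
    obtain ⟨W, m, n, d, hx, ⟨eW⟩⟩ := exists_free_cokernel_of_isFP h x
    exact ⟨W, m, n, d, hx, ⟨eW ≪≫ (Scheme.Modules.restrictFunctor W.ι).mapIso e⟩⟩

/-- A pseudo-coherent complex without cohomology below `a` is, locally, a complex in degrees `≥ a` of locally
free modules, except for a finitely presented module in degree `a`. -/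
theorem exists_truncated_nhd (G : CochainComplex X.Modules ℤ) (a : ℤ) (x : X)
    (hz : ∀ i, i < a → IsZero (G.homology i)) (hpc : LocPC (a - 1) (DCoh.toD X G)) :
    ∃ (W : Scheme.{u}) (k : W ⟶ X) (_ : IsOpenImmersion k), x ∈ Set.range k.base ∧
      ∃ (T : CochainComplex W.Modules ℤ) (B : ℤ), (∀ i, (i < a ∨ B < i) → IsZero (T.X i)) ∧
        (∀ i, a < i → FlatMod.IsFinLocFree (T.X i)) ∧ Coh.IsQCoh (T.X a) ∧ CohB1.IsFP (T.X a) ∧
        Nonempty (DerivedCategory.Q.obj T ≅ DerivedCategory.Q.obj ((rCx k).obj G)) := by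
  obtain ⟨W, k, _, hx, P, α, hP, hα⟩ := hpc x
  obtain ⟨a₀, b₀, hab⟩ := hP.1
  let F := (rCx k).obj G
  let β : DerivedCategory.Q.obj P ⟶ DerivedCategory.Q.obj F := α ≫ ((rhoQ k).app G).hom
  have hβ : IsPcMap (a - 1) β := hα.comp (isPcMap_of_isIso _ _)
  obtain ⟨G', g, s, hs, hfac⟩ := DerivedCategory.left_fac β
  haveI := hs
  let H := DerivedCategory.homologyFunctor W.Modules
  have hg : IsPcMap (a - 1) (DerivedCategory.Q.map g) := by
    have : DerivedCategory.Q.map g = β ≫ DerivedCategory.Q.map s := by simp [hfac]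
    exact this ▸ hβ.comp (isPcMap_of_isIso _ _)
  have hgiso : ∀ i, a ≤ i → IsIso (HomologicalComplex.homologyMap g i) := fun i hi =>
    (NatIso.isIso_map_iff (DerivedCategory.homologyFunctorFactors W.Modules i) g).1
      (hg.1 i (by omega))
  haveI : CochainComplex.IsGE G' a := (CochainComplex.isGE_iff G' a).2 fun i hi =>
    (HomologicalComplex.exactAt_iff_isZero_homology _ _).2
      ((((Scheme.Modules.restrictFunctor k).map_isZero (hz i hi)).of_iso
        ((G.sc i).mapHomologyIso (Scheme.Modules.restrictFunctor k))).of_iso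
        (((DerivedCategory.homologyFunctorFactors _ i).app G').symm ≪≫
          (H i).mapIso (asIso (DerivedCategory.Q.map s)).symm ≪≫
          (DerivedCategory.homologyFunctorFactors _ i).app F))
  haveI hq : QuasiIso (CochainComplex.truncGEMap g a) :=
    (CochainComplex.quasiIso_truncGEMap_iff g a).2 fun i hi =>
      (quasiIsoAt_iff_isIso_homologyMap g i).2 (hgiso i hi)
  let T := P.truncGE a
  let eT : DerivedCategory.Q.obj T ≅ DerivedCategory.Q.obj F :=
    @asIso _ _ _ _ (DerivedCategory.Q.map (CochainComplex.truncGEMap g a)) (isIso_Q_map _ hq) ≪≫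
      (@asIso _ _ _ _ (DerivedCategory.Q.map (G'.πTruncGE a))
        (isIso_Q_map _ inferInstance)).symm ≪≫ (asIso (DerivedCategory.Q.map s)).symm
  let ec : cokernel (P.d (a - 1) a) ≅ T.X a :=
    let e₀ := IsColimit.coconePointUniqueUpToIso (cokernelIsCokernel (P.d (a - 1) a))
      (P.opcyclesIsCokernel (a - 1) a (by simp))
    e₀ ≪≫ (P.truncGEXIsoOpcycles a).symm
  have hq' : ∀ i, Coh.IsQCoh (P.X i) := fun i => QCoh.isQCoh_of_isFinLocFree (hP.2 i)
  haveI hqc : Coh.IsQCoh (cokernel (P.d (a - 1) a)) := QCoh.isQCoh_cokernel (hq' _) (hq' _) _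
  refine ⟨W, k, inferInstance, hx, T, max a b₀, fun i hi => ?_, fun i hi =>
    H23.PullPush.isFinLocFree_of_iso (P.truncGEXIso a i hi).symm (hP.2 i),
    KFlatLib.isQCoh_of_iso ec hqc,
    fp_of_iso ec (FPEnough.isFP_cokernel (hq' _) (QCoh.isFT_of_isFP (QCoh.isFP_of_isFinLocFree (hP.2 _)))
      (hq' _) (QCoh.isFP_of_isFinLocFree (hP.2 _)) _), ⟨eT⟩⟩
  rcases hi with hi | hi
  · exact T.isZero_of_isStrictlyGE a i hi
  · exact (hab i (Or.inr (by omega))).of_iso (P.truncGEXIso a i (by omega))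

/-- On a flat and finitely presented scheme over the base: perfect amplitude over the base spreads from a point. -/
theorem exists_amp_nhd_flat (g : X ⟶ Y) [Flat g] [LocallyOfFinitePresentation g]
    (G : CochainComplex X.Modules ℤ) (a b : ℤ) (x : X)
    (hz : ∀ i, (i < a ∨ b < i) → IsZero (G.homology i)) (hpc : LocPC (a - 1) (DCoh.toD X G))
    (hx : DerSch.HasTorAmplitudeAt g a b G x) :
    ∃ V : X.Opens, x ∈ V ∧ (∀ m, LocPC m ((rho V.ι).obj (DCoh.toD X G))) ∧
      ∀ q ∈ V, DerSch.HasTorAmplitudeAt g a b G q := by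
  obtain ⟨W, k, _, ⟨w, rfl⟩, T, B, hzT, hflf, hqa, hfpa, ⟨eT⟩⟩ :=
    exists_truncated_nhd G a x (fun i hi => hz i (Or.inl hi)) hpc
  let B' := max B b
  let eT' : DCoh.toD W ((pullCx k).obj G) ≅ DCoh.toD W T :=
    DerivedCategory.Q.mapIso ((NatIso.mapHomologicalComplex
      (Scheme.Modules.restrictFunctorIsoPullback k) (ComplexShape.up ℤ)).app G).symm ≪≫ eT.symm
  have hzs : ∀ (v : W) (i : ℤ), (i < a ∨ B < i) → IsZero (((DerSch.stalkCxOver (k ≫ g) v).obj T).X i) :=
    fun v i hi => (DerSch.stalkOver (k ≫ g) v).map_isZero (hzT i hi)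
  have hflat : ∀ (v : W) (i : ℤ), i ≠ a →
      Module.Flat (Y.presheaf.stalk ((k ≫ g) v)) (((DerSch.stalkCxOver (k ≫ g) v).obj T).X i) := fun v i hi => by
    rcases lt_or_gt_of_ne hi with hi | hi
    · haveI := ModuleCat.subsingleton_of_isZero (hzs v i (Or.inl hi))
      infer_instance
    · exact flat_stalkOver_flf (k ≫ g) (hflf i hi) v
  have h₀ := hasTorAmplitudeAt_of_iso (k ≫ g) eT'
    ((JacFibre.hasTorAmplitudeAt_pullCx_iff k g G w a b).1 hx)
  have hC : FlatMod.IsFlatOverAt (k ≫ g) (T.X a) w :=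
    (RelTor.flatOverAt_iff _ _ _).2 (flat_lowest ((DerSch.stalkCxOver (k ≫ g) w).obj T) a b B (hzs w)
      (fun i hi => hflat w i hi.ne') h₀)
  let O : W.Opens := ⟨_, Groth.Agent.S4863.result (k ≫ g) (T.X a) hfpa⟩
  have hflatO : ∀ (v : W), v ∈ O → ∀ i : ℤ,
      Module.Flat (Y.presheaf.stalk ((k ≫ g) v)) (((DerSch.stalkCxOver (k ≫ g) v).obj T).X i) := fun v hv i => by
    rcases eq_or_ne i a with rfl | hi
    · exact (RelTor.flatOverAt_iff _ _ _).1 hv
    · exact hflat v i hi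
  have hzG : ∀ (q : X) (i : ℤ), b < i → IsZero (((DerSch.stalkCxOver g q).obj G).homology i) := fun q i hi =>
    ((DerSch.stalkOver g q).map_isZero (hz i (Or.inr hi))).of_iso ((G.sc i).mapHomologyIso (DerSch.stalkOver g q))
  refine ⟨k ''ᵁ O, ⟨w, hC, rfl⟩, fun m => ?_, ?_⟩
  · let j := O.ι ≫ k
    have h₁ : ∀ i : ℤ, LocPC (-1) (DCoh.inD O.toScheme (((rCx O.ι).obj T).X i)) := fun i => by
      refine LocPC.of_iso (rhoInD O.ι (T.X i)) (LocPC.restrict ?_ O.ι)
      rcases lt_trichotomy i a with hi | hi | hi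
      · exact locPC_isZero (Functor.map_isZero _ (hzT i (Or.inl hi)))
      · subst hi; exact locPC_of_isFP _ hfpa
      · exact locPC_of_isFP _ (QCoh.isFP_of_isFinLocFree (hflf i hi))
    have h₂ : ∀ i : ℤ, FlatMod.IsFlatOver (O.ι ≫ k ≫ g) (((rCx O.ι).obj T).X i) := fun i v => by
      obtain ⟨e⟩ := JacFibre.nonempty_stalkCxOver_pullCx O.ι (k ≫ g) T v
      haveI := hflatO (O.ι v) v.2 i
      refine (RelTor.flatOverAt_iff _ _ _).2 ((Module.Flat.equiv_iff (HomologicalComplex.Hom.isoApp e i ≪≫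
        (DerSch.stalkOver (O.ι ≫ k ≫ g) v).mapIso
          (((Scheme.Modules.restrictFunctorIsoPullback O.ι).app (T.X i)).symm)).toLinearEquiv).1 this)
    have hg := chartsPC_of_flat (O.ι ≫ k ≫ g)
    have hall := relAll_of_flat_fp_terms (O.ι ≫ k ≫ g) ((rCx O.ι).obj T) B
      (fun i hi => (Scheme.Modules.restrictFunctor O.ι).map_isZero (hzT i (Or.inr hi))) h₂
      (fun i => (rel_iff_locPC _ hg (-1) _).2 (h₁ i)) m
    have h₃ : LocPC m ((rho j).obj (DCoh.toD X G)) :=
      LocPC.of_iso (((rhoQ O.ι).app T).symm ≪≫ (rho O.ι).mapIso (eT ≪≫ ((rhoQ k).app G).symm) ≪≫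
        rhoComp O.ι k j rfl (DCoh.toD X G)) ((rel_iff_locPC _ hg m _).1 hall)
    have hr : Set.range (k ''ᵁ O).ι.base ⊆ Set.range j.base := by
      rintro _ ⟨⟨_, v, hv, rfl⟩, rfl⟩
      exact ⟨⟨v, hv⟩, rfl⟩
    haveI : IsOpenImmersion (IsOpenImmersion.lift j (k ''ᵁ O).ι hr ≫ j) := by
      rw [IsOpenImmersion.lift_fac]; infer_instance
    haveI : IsOpenImmersion (IsOpenImmersion.lift j (k ''ᵁ O).ι hr) := IsOpenImmersion.of_comp _ j
    exact (h₃.restrict (IsOpenImmersion.lift j (k ''ᵁ O).ι hr)).of_iso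
      (rhoComp _ j _ (IsOpenImmersion.lift_fac _ _ _) _)
  · rintro _ ⟨v, hv, rfl⟩
    refine (JacFibre.hasTorAmplitudeAt_pullCx_iff k g G v a b).2
      (hasTorAmplitudeAt_of_iso (k ≫ g) eT'.symm ?_)
    refine shrink (b := B') ⟨(DerSch.stalkCxOver (k ≫ g) v).obj T,
      fun i hi => hzs v i (by omega), hflatO v hv, ⟨Iso.refl _⟩⟩ fun i hi => ?_
    obtain ⟨e⟩ := JacFibre.nonempty_stalkCxOver_pullCx k g G v
    let st := DerSch.stalkOver (k ≫ g) v
    haveI := Functor.preservesFiniteLimits_of_preservesHomology st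
    haveI := Functor.preservesFiniteColimits_of_preservesHomology st
    exact (hzG (k v) i hi).of_iso ((DerivedCategory.homologyFunctor _ i).mapIso
      ((st.mapDerivedCategoryFactors.app T).symm ≪≫ st.mapDerivedCategory.mapIso eT'.symm ≪≫
        st.mapDerivedCategoryFactors.app _ ≪≫ DerivedCategory.Q.mapIso e.symm) ≪≫
      (DerivedCategory.homologyFunctorFactors _ i).app _)

/-- Relative pseudo-coherence at level `a - 1`, cohomology in `[a, b]` and tor amplitude at a point give relative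
perfect amplitude nearby. -/
theorem exists_perfAmp_nhd (f : X ⟶ Y) [LocallyOfFiniteType f] (F : CochainComplex X.Modules ℤ) (a b : ℤ) (x : X)
    (hz : ∀ i, (i < a ∨ b < i) → IsZero (F.homology i))
    (hpc : DerSch.IsPseudoCoherentRel f (a - 1) (DCoh.toD X F))
    (hx : DerSch.HasTorAmplitudeAt f a b F x) :
    ∃ U : X.Opens, x ∈ U ∧ DerSch.HasPerfAmplitudeRel (U.ι ≫ f) a b ((DCoh.restrictCx U).obj F) := by
  obtain ⟨_, ⟨V, hV, rfl⟩, hxV, -⟩ := Y.isBasis_affineOpens.exists_subset_of_mem_open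
    (show f x ∈ (⊤ : Y.Opens) from trivial) (⊤ : Y.Opens).2
  obtain ⟨_, ⟨(U₀ : X.Opens), hU₀, rfl⟩, hxU, (hle : U₀ ≤ f ⁻¹ᵁ _)⟩ :=
    X.isBasis_affineOpens.exists_subset_of_mem_open (show x ∈ f ⁻¹ᵁ V from hxV) (f ⁻¹ᵁ V).2
  obtain ⟨n, φ, hφ⟩ := exists_isChart hle (finiteType_appLE hU₀ hV hle)
  haveI := isClosedImmersion_imm hU₀ hφ.1
  let i := imm U₀ φ
  let g : Spec (CommRingCat.of (MvPolynomial (Fin n) Γ(Y, V))) ⟶ Y :=
    Spec.map (CommRingCat.ofHom (MvPolynomial.C : Γ(Y, V) →+* MvPolynomial (Fin n) Γ(Y, V))) ≫ hV.fromSpec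
  haveI : Flat (Spec.map (CommRingCat.ofHom (MvPolynomial.C : Γ(Y, V) →+* MvPolynomial (Fin n) Γ(Y, V)))) :=
    HasRingHomProperty.Spec_iff.2 (RingHom.flat_algebraMap_iff.2
      (inferInstance : Module.Flat Γ(Y, V) (MvPolynomial (Fin n) Γ(Y, V))))
  haveI : LocallyOfFinitePresentation
      (Spec.map (CommRingCat.ofHom (MvPolynomial.C : Γ(Y, V) →+* MvPolynomial (Fin n) Γ(Y, V)))) :=
    HasRingHomProperty.Spec_iff.2 (RingHom.finitePresentation_algebraMap.2
      (inferInstance : Algebra.FinitePresentation Γ(Y, V) (MvPolynomial (Fin n) Γ(Y, V))))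
  have hig : i ≫ g = (Scheme.Opens.ι U₀) ≫ f := by
    simp only [i, g, imm, Category.assoc, ← Spec.map_comp_assoc]
    rw [show CommRingCat.ofHom MvPolynomial.C ≫ CommRingCat.ofHom φ = f.appLE V U₀ hle from
      CommRingCat.hom_ext hφ.2, IsAffineOpen.SpecMap_appLE_fromSpec f hV hU₀ hle,
      IsAffineOpen.toSpecΓ_fromSpec_assoc]
  obtain ⟨u, rfl⟩ : ∃ u : U₀, (Scheme.Opens.ι U₀).base u = x := ⟨⟨x, hxU⟩, rfl⟩
  let F₀ := (rCx (Scheme.Opens.ι U₀)).obj F
  let G := (DerSch.pushCx i).obj F₀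
  let eG : (pD i).obj ((rho (Scheme.Opens.ι U₀)).obj (DCoh.toD X F)) ≅ DCoh.toD _ G :=
    (pD i).mapIso ((rhoQ (Scheme.Opens.ι U₀)).app F) ≪≫ (pQ i).app F₀
  haveI := Functor.preservesFiniteLimits_of_preservesHomology (Scheme.Modules.restrictFunctor (Scheme.Opens.ι U₀))
  have hzG : ∀ q, (q < a ∨ b < q) → IsZero (G.homology q) := fun q hq =>
    (((Scheme.Modules.pushforward i).map_isZero (((Scheme.Modules.restrictFunctor (Scheme.Opens.ι U₀)).map_isZero (hz q hq)).of_iso
      ((F.sc q).mapHomologyIso (Scheme.Modules.restrictFunctor (Scheme.Opens.ι U₀)))))).of_iso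
      ((F₀.sc q).mapHomologyIso (Scheme.Modules.pushforward i))
  have hpcG : LocPC (a - 1) (DCoh.toD _ G) :=
    (rel_iff.1 hpc U₀ V hU₀ hV hle n φ hφ).of_iso eG
  have hcongr : ∀ {q : U₀}, DerSch.HasTorAmplitudeAt g a b G (i q) ↔ DerSch.HasTorAmplitudeAt f a b F ((Scheme.Opens.ι U₀) q) := by
    intro q
    obtain ⟨es⟩ := nonempty_stalkCxOver_push i g F₀ q
    refine Iff.trans ⟨fun h => of_iso (DerivedCategory.Q.mapIso es) h,
      fun h => of_iso (DerivedCategory.Q.mapIso es.symm) h⟩ ?_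
    show DerSch.HasTorAmplitudeAt (i ≫ g) a b F₀ q ↔ _
    rw [hig, JacFibre.hasTorAmplitudeAt_pullCx_iff (Scheme.Opens.ι U₀) f F q a b]
    let e := DerivedCategory.Q.mapIso ((NatIso.mapHomologicalComplex
      (Scheme.Modules.restrictFunctorIsoPullback (Scheme.Opens.ι U₀)) (ComplexShape.up ℤ)).app F)
    exact ⟨hasTorAmplitudeAt_of_iso _ e, hasTorAmplitudeAt_of_iso _ e.symm⟩
  obtain ⟨O, hpO, hO₁, hO₂⟩ := exists_amp_nhd_flat g G a b (i u) hzG hpcG (hcongr.2 hx)
  let k := (i ⁻¹ᵁ O).ι ≫ (Scheme.Opens.ι U₀)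
  refine ⟨k.opensRange, ⟨⟨u, hpO⟩, rfl⟩, fun m => ?_, fun z => ?_⟩
  · have h₁ : DerSch.IsPseudoCoherentRel ((i ∣_ O) ≫ O.ι ≫ g) m
        ((rho (i ⁻¹ᵁ O).ι).obj ((rho (Scheme.Opens.ι U₀)).obj (DCoh.toD X F))) :=
      (rel_closed_comp_iff (i ∣_ O) (O.ι ≫ g) (chartsPC_of_flat _) m _).2
        ((hO₁ m).of_iso ((rho O.ι).mapIso eG.symm ≪≫ rhoPDOpen i O _))
    rw [morphismRestrict_ι_assoc, hig] at h₁
    have h₂ := rel_restrict (rangeHom k) _ h₁
    rw [← Category.assoc (i ⁻¹ᵁ O).ι, ← Category.assoc (rangeHom k), rangeHom_fac] at h₂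
    exact rel_of_iso' _ ((rho (rangeHom k)).mapIso (rhoComp _ _ k rfl _) ≪≫
      rhoComp (rangeHom k) k _ (rangeHom_fac k) _ ≪≫ (rhoQ k.opensRange.ι).app F) h₂
  · obtain ⟨q, hq⟩ := z.2
    have h := hcongr.1 (hO₂ _ q.2)
    have hz' : k.opensRange.ι z = (Scheme.Opens.ι U₀) q.1 := hq.symm
    rw [← hz', JacFibre.hasTorAmplitudeAt_pullCx_iff k.opensRange.ι f F z a b] at h
    exact hasTorAmplitudeAt_of_iso _ (DerivedCategory.Q.mapIso ((NatIso.mapHomologicalComplex
      (Scheme.Modules.restrictFunctorIsoPullback k.opensRange.ι) (ComplexShape.up ℤ)).app F).symm) h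

/-- Relative perfect amplitude only depends on the object of the derived category. -/
theorem perfAmp_of_iso (f : X ⟶ Y) {F G : CochainComplex X.Modules ℤ} (e : DCoh.toD X F ≅ DCoh.toD X G) {a b : ℤ}
    (h : DerSch.HasPerfAmplitudeRel f a b F) : DerSch.HasPerfAmplitudeRel f a b G :=
  haveI := (h.1 0).1
  ⟨fun m => rel_of_iso' f e (h.1 m), hasTorAmplitude_of_iso f e h.2⟩

/-- Relative perfect amplitude restricts to open subschemes. -/
theorem perfAmp_restrict {U : Scheme.{u}} (j : U ⟶ X) [IsOpenImmersion j] (f : X ⟶ Y)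
    {F : CochainComplex X.Modules ℤ} {a b : ℤ} (h : DerSch.HasPerfAmplitudeRel f a b F) :
    DerSch.HasPerfAmplitudeRel (j ≫ f) a b ((rCx j).obj F) := by
  haveI := (h.1 0).1
  refine ⟨fun m => rel_of_iso' _ ((rhoQ j).app F) (rel_restrict j f (h.1 m)), fun v => ?_⟩
  exact hasTorAmplitudeAt_of_iso _ (DerivedCategory.Q.mapIso ((NatIso.mapHomologicalComplex
    (Scheme.Modules.restrictFunctorIsoPullback j) (ComplexShape.up ℤ)).app F).symm)
      ((JacFibre.hasTorAmplitudeAt_pullCx_iff j f F v a b).1 (h.2 (j v)))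

/-- Cohomology vanishes outside the relative tor amplitude. -/
theorem isZero_homology_of_torAmp (f : X ⟶ Y) {F : CochainComplex X.Modules ℤ} {a b : ℤ}
    (h : DerSch.HasTorAmplitude f a b F) (i : ℤ) (hi : i < a ∨ b < i) : IsZero (F.homology i) := by
  refine isZero_of_stalk _ fun x => ?_
  obtain ⟨E, hv, -, ⟨e⟩⟩ := h x
  have hz := ((ShortComplex.isZero_homology_of_isZero_X₂ (E.sc i) (hv i hi)).of_iso
    (((DerivedCategory.homologyFunctorFactors _ i).app _).symm ≪≫
      (DerivedCategory.homologyFunctor _ i).mapIso e.symm ≪≫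
      (DerivedCategory.homologyFunctorFactors _ i).app E)).of_iso
    ((F.sc i).mapHomologyIso (DerSch.stalkOver f x)).symm
  haveI := ModuleCat.subsingleton_of_isZero hz
  exact @ModuleCat.isZero_of_subsingleton _ _ _
    (this : Subsingleton ((DerSch.stalkFunctor X x).obj (F.homology i) : Type u))

end Groth.Agent.KSixRel
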