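import Groth.Agent.KSixRel.AmpPoly
import Groth.Agent.RelPC17.AmpWEt
import Mathlib.AlgebraicGeometry.Morphisms.Smooth
import Mathlib.Algebra.Algebra.Epi
import Mathlib.RingTheory.RingHom.StandardSmooth
import Mathlib.Algebra.MvPolynomial.Equiv

/-!
# Tor amplitude over smooth algebras
-/

set_option autoImplicit false
set_option linter.style.haveILetI false
set_option backward.isDefEq.respectTransparency false
set_option backward.isDefEq.respectTransparency.types false

universe u

open CategoryTheory CategoryTheory.Limits AlgebraicGeometry TensorProduct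

attribute [local instance] HasDerivedCategory.standard

namespace Groth.Agent.KSixRel

open KFlatLib RelPC17 H9Misc.DRingTor

section Ring

variable {A B C : Type u} [CommRing A] [CommRing B] [CommRing C]

/-- Restriction along a composite. -/
theorem amp_res_comp (φ : A →+* B) (ψ : B →+* C) (χ : A →+* C) (h : χ = ψ.comp φ) {a b : ℤ} (K : DRing.Cx C) :
    DRing.HasTorAmplitudeIn A a b (DRing.toD ((DRing.restrictCx φ).obj ((DRing.restrictCx ψ).obj K))) ↔
      DRing.HasTorAmplitudeIn A a b (DRing.toD ((DRing.restrictCx χ).obj K)) :=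
  let e := (Functor.mapHomologicalComplexCompIso (F := ModuleCat.restrictScalars ψ) (G := ModuleCat.restrictScalars φ)
    (ModuleCat.restrictScalarsComp' φ ψ χ h).symm (ComplexShape.up ℤ)).app K
  ⟨of_iso (DerivedCategory.Q.mapIso e), of_iso (DerivedCategory.Q.mapIso e.symm)⟩

/-- Restriction along a flat map. -/
theorem amp_res_flat (φ : A →+* B) (hφ : φ.Flat) {a b : ℤ} (K : DRing.Cx B)
    (h : DRing.HasTorAmplitudeIn B a b (DRing.toD K)) :
    DRing.HasTorAmplitudeIn A a b (DRing.toD ((DRing.restrictCx φ).obj K)) := by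
  letI := φ.toAlgebra
  haveI : Module.Flat A B := hφ
  exact of_iso ((ModuleCat.restrictScalars φ).mapDerivedCategoryFactors.app K) (amp_restrict_of_flat _ h)

/-- Ascent along a weakly etale map. -/
theorem amp_of_we (φ : A →+* B) (hφ : letI := φ.toAlgebra; Algebra.WeaklyEtale A B) {a b : ℤ} (K : DRing.Cx B)
    (h : DRing.HasTorAmplitudeIn A a b (DRing.toD ((DRing.restrictCx φ).obj K))) :
    DRing.HasTorAmplitudeIn B a b (DRing.toD K) := by
  letI := φ.toAlgebra
  haveI := hφ
  exact amp_of_weaklyEtale _ (of_iso ((ModuleCat.restrictScalars φ).mapDerivedCategoryFactors.app K).symm h)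

/-- Localisations are weakly etale. -/
theorem weaklyEtale_of_isLocalization [Algebra A B] (M : Submonoid A) [IsLocalization M B] :
    Algebra.WeaklyEtale A B := by
  haveI : Algebra.IsEpi A B := (Algebra.isEpi_iff_forall_one_tmul_eq A B).2 fun u => by
    obtain ⟨⟨r, s⟩, hr⟩ := IsLocalization.surj M u
    obtain ⟨v, hv⟩ := (IsLocalization.map_units B s).exists_left_inv
    calc (1 : B) ⊗ₜ[A] u = ((s : A) • v) ⊗ₜ[A] u := by rw [Algebra.smul_def, mul_comm, hv]
      _ = v ⊗ₜ[A] ((s : A) • u) := TensorProduct.smul_tmul _ _ _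
      _ = v ⊗ₜ[A] (r • (1 : B)) := by rw [Algebra.smul_def, mul_comm, hr, Algebra.smul_def, mul_one]
      _ = (r • v) ⊗ₜ[A] (1 : B) := (TensorProduct.smul_tmul _ _ _).symm
      _ = u ⊗ₜ[A] (1 : B) := by
        rw [Algebra.smul_def, ← hr, mul_assoc, mul_comm (algebraMap A B _) v, hv, mul_one]
  refine { flat := IsLocalization.flat B M, flat_lmul' := RingHom.Flat.of_bijective ⟨?_, fun b => ⟨b ⊗ₜ 1, by simp⟩⟩ }
  have h := (inferInstance : Algebra.IsEpi A B).injective_lift_mul
  intro x y hxy
  refine h ?_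
  have e : ∀ z : B ⊗[A] B, TensorProduct.lift (LinearMap.mul A B) z = Algebra.TensorProduct.lmul' A (S := B) z := by
    intro z
    induction z using TensorProduct.induction_on with
    | zero => simp
    | add p q hp hq => rw [map_add, map_add, hp, hq]
    | tmul p q => simp
  rw [e, e]
  exact hxy

/-- A bijective map is weakly etale. -/
theorem weaklyEtale_of_bijective [Algebra A B] (h : Function.Bijective (algebraMap A B)) :
    Algebra.WeaklyEtale A B := by
  haveI : IsLocalization (⊥ : Submonoid A) A := IsLocalization.self fun x hx => by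
    rw [Submonoid.mem_bot.1 hx]; exact isUnit_one
  haveI : IsLocalization (⊥ : Submonoid A) B := IsLocalization.isLocalization_of_algEquiv (⊥ : Submonoid A)
    (S := A) (AlgEquiv.ofBijective (Algebra.ofId A B) h)
  exact weaklyEtale_of_isLocalization (⊥ : Submonoid A)

/-- Tor amplitude over a polynomial algebra in finitely many variables. -/
theorem amp_mvPolynomial (A : Type u) [CommRing A] : ∀ (n : ℕ) (a b : ℤ)
    (K : DRing.Cx (MvPolynomial (Fin n) A)),
    DRing.HasTorAmplitudeIn A a b (DRing.toD ((DRing.restrictCx (MvPolynomial.C : A →+* MvPolynomial (Fin n) A)).obj K)) →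
    DRing.HasTorAmplitudeIn (MvPolynomial (Fin n) A) (a - n) b (DRing.toD K)
  | 0, a, b, K, h => by
    have hbij : Function.Bijective (MvPolynomial.C : A →+* MvPolynomial (Fin 0) A) := by
      refine ⟨MvPolynomial.C_injective _ _, fun p => ?_⟩
      exact ⟨p.coeff 0, ((MvPolynomial.eq_C_of_isEmpty p)).symm⟩
    have := amp_of_we (MvPolynomial.C : A →+* MvPolynomial (Fin 0) A)
      (by letI := (MvPolynomial.C : A →+* MvPolynomial (Fin 0) A).toAlgebra; exact weaklyEtale_of_bijective hbij) K h
    simpa using this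
  | n + 1, a, b, K, h => by
    let P := MvPolynomial (Fin n) A
    let e : MvPolynomial (Fin (n + 1)) A ≃ₐ[A] Polynomial P := MvPolynomial.finSuccEquiv A n
    let ι : Polynomial P →+* MvPolynomial (Fin (n + 1)) A := e.symm.toRingEquiv.toRingHom
    have hι : Function.Bijective ι := e.symm.bijective
    let κ : P →+* MvPolynomial (Fin (n + 1)) A := ι.comp Polynomial.C
    have hκ : (MvPolynomial.C : A →+* MvPolynomial (Fin (n + 1)) A) = κ.comp MvPolynomial.C := by
      refine RingHom.ext fun r => ?_
      exact ((e.symm.commutes r).symm : algebraMap A _ r = e.symm (algebraMap A (Polynomial P) r))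
    have h₁ := amp_mvPolynomial A n a b ((DRing.restrictCx κ).obj K) ((amp_res_comp _ κ _ hκ K).2 h)
    have h₂ := amp_polynomial P (a - n) b ((DRing.restrictCx ι).obj K) ((amp_res_comp _ ι κ rfl K).2 h₁)
    have h₃ := amp_of_we ι (by letI := ι.toAlgebra; exact weaklyEtale_of_bijective hι) K h₂
    rwa [show a - ((n + 1 : ℕ) : ℤ) = a - n - 1 by push_cast; ring]

end Ring

section Scheme

variable {X Y : Scheme.{u}} (g : X ⟶ Y)

/-- Along a smooth morphism of relative dimension `n` tor amplitude over the base gives tor amplitude over the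
local rings of the source, losing `n`. -/
theorem amp_stalk_of_smoothOfRelativeDimension (n : ℕ) [SmoothOfRelativeDimension n g] (x : X) (a b : ℤ)
    (K : DRing.Cx (X.presheaf.stalk x))
    (h : DRing.HasTorAmplitudeIn (Y.presheaf.stalk (g x)) a b
      (DRing.toD ((DRing.restrictCx (g.stalkMap x).hom).obj K))) :
    DRing.HasTorAmplitudeIn (X.presheaf.stalk x) (a - n) b (DRing.toD K) := by
  obtain ⟨U, hU, V, hV, hxV, e, hs⟩ :=
    SmoothOfRelativeDimension.exists_isStandardSmoothOfRelativeDimension (n := n) (f := g) x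
  obtain ⟨q, hqC, hq⟩ := hs.exists_etale_mvPolynomial
  let ρ : Γ(Y, U) →+* Y.presheaf.stalk (g x) := (Y.presheaf.germ U (g x) (e hxV)).hom
  let τ : Γ(X, V) →+* X.presheaf.stalk x := (X.presheaf.germ V x hxV).hom
  have hρ : ρ.Flat := by
    letI := Y.presheaf.algebra_section_stalk ⟨g x, e hxV⟩
    haveI := hU.isLocalization_stalk ⟨g x, e hxV⟩
    exact IsLocalization.flat (Y.presheaf.stalk (g x)) (hU.primeIdealOf ⟨g x, e hxV⟩).asIdeal.primeCompl
  have hτ : letI := τ.toAlgebra; Algebra.WeaklyEtale Γ(X, V) (X.presheaf.stalk x) := by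
    letI := X.presheaf.algebra_section_stalk ⟨x, hxV⟩
    haveI := hV.isLocalization_stalk ⟨x, hxV⟩
    exact weaklyEtale_of_isLocalization (hV.primeIdealOf ⟨x, hxV⟩).asIdeal.primeCompl
  have hsq : (g.stalkMap x).hom.comp ρ = τ.comp (g.appLE U V e).hom := by
    refine RingHom.ext fun r => ?_
    show g.stalkMap x (Y.presheaf.germ U (g x) (e hxV) r) = X.presheaf.germ V x hxV ((g.appLE U V e).hom r)
    rw [Scheme.Hom.germ_stalkMap_apply]
    exact (X.presheaf.germ_res_apply (homOfLE e) x hxV (g.app U r)).symm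
  have h₁ : DRing.HasTorAmplitudeIn Γ(Y, U) a b (DRing.toD ((DRing.restrictCx MvPolynomial.C).obj
      ((DRing.restrictCx q).obj ((DRing.restrictCx τ).obj K)))) := by
    rw [amp_res_comp _ q (g.appLE U V e).hom hqC.symm, amp_res_comp _ τ _ hsq]
    exact (amp_res_comp ρ _ _ rfl K).1 (amp_res_flat ρ hρ _ h)
  have h₂ := amp_mvPolynomial Γ(Y, U) n a b _ h₁
  have hq' : letI := q.toAlgebra; Algebra.WeaklyEtale (MvPolynomial (Fin n) Γ(Y, U)) Γ(X, V) := by
    letI := q.toAlgebra
    haveI : Algebra.Etale (MvPolynomial (Fin n) Γ(Y, U)) Γ(X, V) := hq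
    infer_instance
  exact amp_of_we τ hτ K (amp_of_we q hq' _ h₂)

end Scheme

end Groth.Agent.KSixRel
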