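import Groth.Agent.KFlatLib.Scheme.StalkTorAmpComp
import Groth.Agent.H9Misc.DRingTorLTensor
import Groth.Agent.KFlatLib.Ring.Resolution
import Groth.Agent.KFlatLib.Scheme.LpullComp

/-!
# Tor amplitude of derived pullbacks
-/

set_option autoImplicit false
set_option linter.style.haveILetI false
set_option backward.isDefEq.respectTransparency false
set_option backward.isDefEq.respectTransparency.types false

universe u

open CategoryTheory CategoryTheory.Limits AlgebraicGeometry MonoidalCategory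

attribute [local instance] HasDerivedCategory.standard

namespace Groth.Agent.KSixRel

open KFlatLib

/-- The base change of a K-flat complex of tor amplitude `[c, d]` over `A` along a map of tor dimension `≤ m`. -/
theorem amp_extend {A B C : Type u} [CommRing A] [CommRing B] [CommRing C] (ψ : A →+* B) (φ : B →+* C)
    (P : DRing.Cx B) (hP : KFlat (curriedTensor (ModuleCat.{u} B)) P) (m c d : ℤ)
    (hC : DRing.HasTorAmplitudeIn B (-m) 0 (DerivedCategory.Q.obj
      ((HomologicalComplex.single (ModuleCat.{u} B) (ComplexShape.up ℤ) 0).obj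
        ((ModuleCat.restrictScalars φ).obj (ModuleCat.of C C)))))
    (hA : DRing.HasTorAmplitudeIn A c d (DRing.toD ((DRing.restrictCx ψ).obj P))) :
    DRing.HasTorAmplitudeIn A (c - m) d (DerivedCategory.Q.obj
      (((ModuleCat.restrictScalars (φ.comp ψ)).mapHomologicalComplex (ComplexShape.up ℤ)).obj
        (((ModuleCat.extendScalars φ).mapHomologicalComplex (ComplexShape.up ℤ)).obj P))) := by
  let T := curriedTensor (ModuleCat.{u} B)
  let R := (ModuleCat.restrictScalars φ).obj (ModuleCat.of C C)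
  let S := (HomologicalComplex.single (ModuleCat.{u} B) (ComplexShape.up ℤ) 0).obj R
  obtain ⟨E, hv, hf, ⟨e⟩⟩ := hC
  obtain ⟨Z, s, hs, t, ht⟩ := DerivedCategory.right_fac (C := ModuleCat.{u} B) (X := E) (Y := S) e.hom
  haveI : IsIso (DerivedCategory.Q.map s) := hs
  haveI : IsIso (DerivedCategory.Q.map t) := by
    have h : DerivedCategory.Q.map t = DerivedCategory.Q.map s ≫ e.hom := by
      rw [ht, IsIso.hom_inv_id_assoc]
    rw [h]
    infer_instance
  haveI : QuasiIso s := (DerivedCategory.isIso_Q_map_iff_quasiIso _ _).1 inferInstance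
  haveI : QuasiIso t := (DerivedCategory.isIso_Q_map_iff_quasiIso _ _).1 inferInstance
  haveI : QuasiIso ((T.map₂CochainComplex.map s).app P) := hP.quasiIso_map s
  haveI : QuasiIso ((T.map₂CochainComplex.map t).app P) := hP.quasiIso_map t
  let F := (ModuleCat.restrictScalars φ).mapHomologicalComplex (ComplexShape.up ℤ)
  let eR : ModuleCat.extendScalars φ ⋙ ModuleCat.restrictScalars φ ≅ T.flip.obj R :=
    extendRestrictIso φ ≪≫ BraidedCategory.tensorLeftIsoTensorRight R
  let e₂ : (T.map₂CochainComplex.obj S).obj P ≅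
      F.obj (((ModuleCat.extendScalars φ).mapHomologicalComplex (ComplexShape.up ℤ)).obj P) :=
    ((symmIso curriedTensorFlipIso S).app P).symm ≪≫ (singleIso T R).app P ≪≫
      ((Functor.mapHomologicalComplexCompIso (F := ModuleCat.extendScalars φ) (G := ModuleCat.restrictScalars φ)
        eR (ComplexShape.up ℤ)).app P).symm
  let Rψ := (ModuleCat.restrictScalars ψ).mapHomologicalComplex (ComplexShape.up ℤ)
  haveI := Functor.preservesFiniteLimits_of_preservesHomology (ModuleCat.restrictScalars ψ)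
  haveI : QuasiIso (Rψ.map ((T.map₂CochainComplex.map s).app P)) := by
    constructor; intro n; infer_instance
  haveI : QuasiIso (Rψ.map ((T.map₂CochainComplex.map t).app P)) := by
    constructor; intro n; infer_instance
  haveI := (DerivedCategory.isIso_Q_map_iff_quasiIso _ (Rψ.map ((T.map₂CochainComplex.map s).app P))).2 inferInstance
  haveI := (DerivedCategory.isIso_Q_map_iff_quasiIso _ (Rψ.map ((T.map₂CochainComplex.map t).app P))).2 inferInstance
  obtain ⟨E', h1, h2, ⟨e'⟩⟩ := H9Misc.DRingTorLTensor.hasTorAmplitudeIn_tensor ψ E P hv hf hA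
  have hfin : DRing.HasTorAmplitudeIn A (-m + c) (0 + d) (DerivedCategory.Q.obj
      (((ModuleCat.restrictScalars (φ.comp ψ)).mapHomologicalComplex (ComplexShape.up ℤ)).obj
        (((ModuleCat.extendScalars φ).mapHomologicalComplex (ComplexShape.up ℤ)).obj P))) :=
    ⟨E', h1, h2, ⟨e' ≪≫ (asIso (DerivedCategory.Q.map (Rψ.map ((T.map₂CochainComplex.map s).app P)))).symm ≪≫
      asIso (DerivedCategory.Q.map (Rψ.map ((T.map₂CochainComplex.map t).app P))) ≪≫
      DerivedCategory.Q.mapIso (Rψ.mapIso e₂ ≪≫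
        (Functor.mapHomologicalComplexCompIso (F := ModuleCat.restrictScalars φ) (G := ModuleCat.restrictScalars ψ)
          (ModuleCat.restrictScalarsComp' ψ φ (φ.comp ψ) rfl).symm (ComplexShape.up ℤ)).app _)⟩⟩
  rwa [show -m + c = c - m by ring, zero_add] at hfin

variable {X Y Z : Scheme.{u}} (f : X ⟶ Y) (g : Y ⟶ Z)

/-- Tor amplitude of derived pullbacks along morphisms of finite tor dimension. -/
theorem hasTorAmplitude_lpull (n : ℕ) (hf : DerSch.HasTorDimLE f n) [DCoh.HasLpull f]
    (G : CochainComplex Y.Modules ℤ) (c d : ℤ) (hG : DerSch.HasTorAmplitude g c d G)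
    (F : CochainComplex X.Modules ℤ) (e : DCoh.toD X F ≅ (DCoh.Lpull f).obj (DCoh.toD Y G)) :
    DerSch.HasTorAmplitude (f ≫ g) (c - n) d F := by
  let P := (kRes Y).obj G
  haveI := (flatCover Y).quasiIso_ψ G
  haveI := isIso_Q_map ((flatCover Y).ψ.app G) inferInstance
  let eP : DCoh.toD Y P ≅ DCoh.toD Y G := asIso (DerivedCategory.Q.map ((flatCover Y).ψ.app G))
  have hP := hasTorAmplitude_of_iso g eP.symm hG
  refine hasTorAmplitude_of_iso (f ≫ g) (F := (pullCx f).obj P)
    ((lpullIso f (isKFlat_kRes G)).symm ≪≫ (DCoh.Lpull f).mapIso eP ≪≫ e.symm) fun x => ?_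
  obtain ⟨l⟩ := nonempty_stalk_structure x
  let φ := (f.stalkMap x).hom
  let ψ := (g.stalkMap (f.base x)).hom
  have hC : DRing.HasTorAmplitudeIn (Y.presheaf.stalk (f.base x)) (-(n : ℤ)) 0 (DerivedCategory.Q.obj
      ((HomologicalComplex.single (ModuleCat.{u} (Y.presheaf.stalk (f.base x))) (ComplexShape.up ℤ) 0).obj
        ((ModuleCat.restrictScalars φ).obj (ModuleCat.of (X.presheaf.stalk x) (X.presheaf.stalk x))))) := by
    obtain ⟨E, hv, hfl, ⟨eE⟩⟩ := hf x
    exact ⟨E, hv, hfl, ⟨eE ≪≫ DerivedCategory.Q.mapIso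
      ((HomologicalComplex.singleMapHomologicalComplex (DerSch.stalkOver f x) _ 0).app _ ≪≫
        (HomologicalComplex.single _ (ComplexShape.up ℤ) 0).mapIso
          ((ModuleCat.restrictScalars φ).mapIso l.symm.toModuleIso))⟩⟩
  have hA : DRing.HasTorAmplitudeIn (Z.presheaf.stalk (g.base (f.base x))) c d
      (DRing.toD ((DRing.restrictCx ψ).obj ((stalkCx (f.base x)).obj P))) := by
    obtain ⟨E, hv, hfl, ⟨eE⟩⟩ := hP (f.base x)
    exact ⟨E, hv, hfl, ⟨eE ≪≫ DerivedCategory.Q.mapIso
      ((Functor.mapHomologicalComplexCompIso (F := DerSch.stalkFunctor Y (f.base x))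
        (G := ModuleCat.restrictScalars ψ) (Iso.refl (DerSch.stalkOver g (f.base x))) (ComplexShape.up ℤ)).app P).symm⟩⟩
  obtain ⟨E, hv, hfl, ⟨eE⟩⟩ := amp_extend ψ φ ((stalkCx (f.base x)).obj P)
    ((kFlat_iff_stalk P).1 (isKFlat_kRes G) (f.base x)) n c d hC hA
  let u : DerSch.stalkOver (f ≫ g) x ≅ DerSch.stalkFunctor X x ⋙ ModuleCat.restrictScalars (φ.comp ψ) :=
    Functor.isoWhiskerLeft _ (eqToIso (congrArg ModuleCat.restrictScalars
      (show ((f ≫ g).stalkMap x).hom = φ.comp ψ by rw [Scheme.Hom.stalkMap_comp]; rfl)))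
  exact ⟨E, hv, hfl, ⟨eE ≪≫ DerivedCategory.Q.mapIso
    (((ModuleCat.restrictScalars (φ.comp ψ)).mapHomologicalComplex (ComplexShape.up ℤ)).mapIso
      (stalkPullCxIso f x P).symm ≪≫
      (Functor.mapHomologicalComplexCompIso (F := DerSch.stalkFunctor X x)
        (G := ModuleCat.restrictScalars (φ.comp ψ)) u.symm (ComplexShape.up ℤ)).app _)⟩⟩

end Groth.Agent.KSixRel
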