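import Groth.Agent.KSixRel.AmpBaseChange
import Groth.Agent.H9Misc.DRingTorTriangle
import Groth.Agent.H9Misc.DRingTorDim
import Mathlib.Algebra.Homology.DerivedCategory.ShortExact
import Mathlib.Algebra.Polynomial.Basis
import Mathlib.RingTheory.MvPolynomial.Basic

/-!
# Tor amplitude over polynomial algebras
-/

set_option autoImplicit false
set_option linter.style.haveILetI false
set_option backward.isDefEq.respectTransparency false
set_option backward.isDefEq.respectTransparency.types false

universe u

open CategoryTheory CategoryTheory.Limits TensorProduct Polynomial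
open CategoryTheory.Pretriangulated

attribute [local instance] HasDerivedCategory.standard

namespace Groth.Agent.KSixRel

open KFlatLib H9Misc.DRingTor

section Module

variable (A : Type u) [CommRing A] (N : Type u) [AddCommGroup N] [Module A[X] N] [Module A N]
  [IsScalarTower A A[X] N]

/-- Multiplication by the variable on the module. -/
noncomputable def xmul : N →ₗ[A] N := DistribSMul.toLinearMap A N (X : A[X])

/-- The difference of the two actions of the variable. -/
noncomputable def delta : A[X] ⊗[A] N →ₗ[A[X]] A[X] ⊗[A] N :=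
  (LinearMap.lsmul A[X] (A[X] ⊗[A] N) X) - (xmul A N).baseChange A[X]

/-- The action map. -/
noncomputable def actMap : A[X] ⊗[A] N →ₗ[A[X]] N :=
  ((LinearMap.id : N →ₗ[A] N).liftBaseChange A[X])

theorem delta_tmul (b : A[X]) (n : N) : delta A N (b ⊗ₜ n) = (X * b) ⊗ₜ n - b ⊗ₜ ((X : A[X]) • n) := by
  simp [delta, xmul, TensorProduct.smul_tmul']

theorem actMap_tmul (b : A[X]) (n : N) : actMap A N (b ⊗ₜ n) = b • n := by
  simp [actMap]

theorem actMap_surjective : Function.Surjective (actMap A N) := fun n => ⟨1 ⊗ₜ n, by rw [actMap_tmul, one_smul]⟩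

theorem actMap_delta (z : A[X] ⊗[A] N) : actMap A N (delta A N z) = 0 := by
  induction z using TensorProduct.induction_on with
  | zero => simp
  | add x y hx hy => rw [map_add, map_add, hx, hy, add_zero]
  | tmul b n => rw [delta_tmul, map_sub, actMap_tmul, actMap_tmul, smul_smul, mul_comm, sub_self]

theorem ker_actMap_le : LinearMap.ker (actMap A N) ≤ LinearMap.range (delta A N) := by
  have key : ∀ z : A[X] ⊗[A] N, z - 1 ⊗ₜ actMap A N z ∈ LinearMap.range (delta A N) := by
    intro z
    induction z using TensorProduct.induction_on with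
    | zero => simp
    | add x y hx hy =>
      rw [map_add, TensorProduct.tmul_add, add_sub_add_comm]
      exact add_mem hx hy
    | tmul b n =>
      rw [actMap_tmul]
      induction b using Polynomial.induction_on generalizing n with
      | C a =>
        rw [show (C a : A[X]) = a • (1 : A[X]) by rw [Algebra.smul_def, mul_one]; rfl,
          smul_assoc, one_smul, TensorProduct.smul_tmul, sub_self]
        exact Submodule.zero_mem _
      | add p q hp hq =>
        rw [add_smul, TensorProduct.add_tmul, TensorProduct.tmul_add, add_sub_add_comm]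
        exact add_mem (hp n) (hq n)
      | monomial k a h =>
        have e : (C a * X ^ (k + 1) : A[X]) = X * (C a * X ^ k) := by ring
        have h1 : (C a * X ^ (k + 1)) • n = (C a * X ^ k) • ((X : A[X]) • n) := by
          rw [smul_smul, e, mul_comm]
        rw [h1]
        have h2 : ((C a * X ^ (k + 1)) ⊗ₜ[A] n : A[X] ⊗[A] N) =
            delta A N ((C a * X ^ k) ⊗ₜ n) + (C a * X ^ k) ⊗ₜ ((X : A[X]) • n) := by
          rw [delta_tmul, sub_add_cancel, e]
        rw [h2, add_sub_assoc]
        exact add_mem (LinearMap.mem_range_self _ _) (h _)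
  intro z hz
  have := key z
  rwa [LinearMap.mem_ker.1 hz, TensorProduct.tmul_zero, sub_zero] at this

theorem delta_injective : Function.Injective (delta A N) := by
  rw [injective_iff_map_eq_zero]
  intro z hz
  let e := TensorProduct.equivFinsuppOfBasisLeft (N := N) (Polynomial.basisMonomials A)
  have hcoe : ∀ (b : A[X]) (n : N) (i : ℕ), e (b ⊗ₜ n) i = b.coeff i • n := by
    intro b n i
    rw [TensorProduct.equivFinsuppOfBasisLeft_apply_tmul_apply]
    rfl
  have hstep : ∀ (w : A[X] ⊗[A] N) (i : ℕ),
      e (delta A N w) (i + 1) = e w i - (X : A[X]) • e w (i + 1) := by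
    intro w i
    induction w using TensorProduct.induction_on with
    | zero => simp
    | add x y hx hy =>
      simp only [map_add, Finsupp.add_apply, hx, hy, smul_add]
      abel
    | tmul b n =>
      rw [delta_tmul, map_sub, Finsupp.sub_apply, hcoe, hcoe, hcoe, hcoe, Polynomial.coeff_X_mul,
        smul_comm (X : A[X])]
  have hrec : ∀ i, e z i = (X : A[X]) • e z (i + 1) := by
    intro i
    have := hstep z i
    rw [hz, map_zero, Finsupp.zero_apply] at this
    exact sub_eq_zero.1 this.symm
  have hall : ∀ i, e z i = 0 := by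
    by_contra h
    push Not at h
    have hs : (e z).support.Nonempty := by
      obtain ⟨i, hi⟩ := h
      exact ⟨i, Finsupp.mem_support_iff.2 hi⟩
    let m := (e z).support.max' hs
    have hm : e z m ≠ 0 := Finsupp.mem_support_iff.1 (Finset.max'_mem _ hs)
    have h0 : e z (m + 1) = 0 := by
      by_contra h0
      exact absurd (Finset.le_max' _ _ (Finsupp.mem_support_iff.2 h0)) (by simp [m])
    exact hm (by rw [hrec m, h0, smul_zero])
  exact e.injective (by rw [map_zero]; exact Finsupp.ext hall)

end Module

section Complex

variable (A : Type u) [CommRing A]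

/-- Restriction to the coefficients followed by extension. -/
noncomputable abbrev resExt : ModuleCat.{u} A[X] ⥤ ModuleCat.{u} A[X] :=
  ModuleCat.restrictScalars (C : A →+* A[X]) ⋙ ModuleCat.extendScalars (C : A →+* A[X])

/-- The difference of the two actions of the variable, as a natural transformation. -/
noncomputable def deltaNat (N : ModuleCat.{u} A[X]) : (resExt A).obj N ⟶ (resExt A).obj N :=
  (X : A[X]) • 𝟙 _ - (resExt A).map ((X : A[X]) • 𝟙 N)

theorem deltaNat_natural {N N' : ModuleCat.{u} A[X]} (g : N ⟶ N') :
    (resExt A).map g ≫ deltaNat A N' = deltaNat A N ≫ (resExt A).map g := by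
  simp only [deltaNat, Preadditive.comp_sub, Preadditive.sub_comp, Linear.comp_smul, Linear.smul_comp,
    Category.comp_id, Category.id_comp, ← Functor.map_comp]

/-- Tor amplitude over a polynomial ring in one variable. -/
theorem amp_polynomial (a b : ℤ) (K : CochainComplex (ModuleCat.{u} A[X]) ℤ)
    (h : DRing.HasTorAmplitudeIn A a b
      (DRing.toD ((DRing.restrictCx (C : A →+* A[X])).obj K))) :
    DRing.HasTorAmplitudeIn A[X] (a - 1) b (DRing.toD K) := by
  let R := (ModuleCat.restrictScalars (C : A →+* A[X])).mapHomologicalComplex (ComplexShape.up ℤ)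
  let Ex := (ModuleCat.extendScalars (C : A →+* A[X])).mapHomologicalComplex (ComplexShape.up ℤ)
  let S₀ := Ex.obj (R.obj K)
  let δ : S₀ ⟶ S₀ :=
    { f := fun n => deltaNat A (K.X n), comm' := fun i j _ => (deltaNat_natural A (K.d i j)).symm }
  let ε : S₀ ⟶ K :=
    { f := fun n => (ModuleCat.extendRestrictScalarsAdj (C : A →+* A[X])).counit.app (K.X n)
      comm' := fun i j _ => ((ModuleCat.extendRestrictScalarsAdj (C : A →+* A[X])).counit.naturality (K.d i j)).symm }
  have hterm : ∀ n, (∀ z, (ε.f n).hom ((δ.f n).hom z) = 0) ∧ Function.Injective (δ.f n).hom ∧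
      Function.Surjective (ε.f n).hom ∧
      (∀ z, (ε.f n).hom z = 0 → ∃ w, (δ.f n).hom w = z) := by
    intro n
    letI : Module A (K.X n) := Module.compHom _ (C : A →+* A[X])
    haveI : IsScalarTower A A[X] (K.X n) := IsScalarTower.of_algebraMap_smul fun _ _ => rfl
    let e₀ : A[X] ≃ₗ[A] ((ModuleCat.restrictScalars (C : A →+* A[X])).obj (ModuleCat.of A[X] A[X])) :=
      { toFun := fun p => p
        invFun := fun p => p
        left_inv := fun _ => rfl
        right_inv := fun _ => rfl
        map_add' := fun _ _ => rfl
        map_smul' := fun r p => Polynomial.smul_eq_C_mul r }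
    let E : A[X] ⊗[A] (K.X n) ≃+ (S₀.X n : Type u) :=
      (TensorProduct.congr e₀ (LinearEquiv.refl A (K.X n))).toAddEquiv
    have hE : ∀ (p : A[X]) (m : K.X n), E (p ⊗ₜ[A] m) =
        (show (S₀.X n : Type u) from (e₀ p ⊗ₜ[A] m)) := fun p m => rfl
    have hδ : ∀ z : A[X] ⊗[A] (K.X n), (δ.f n).hom (E z) = E (delta A (K.X n) z) := by
      intro z
      induction z using TensorProduct.induction_on with
      | zero => simp only [map_zero]
      | add x y hx hy =>
        rw [map_add (delta A (K.X n)), map_add E, map_add E, map_add (δ.f n).hom, hx, hy]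
      | tmul p m =>
        rw [delta_tmul, map_sub E, hE, hE, hE]
        rfl
    have hε : ∀ z : A[X] ⊗[A] (K.X n), (ε.f n).hom (E z) = actMap A (K.X n) z := by
      intro z
      induction z using TensorProduct.induction_on with
      | zero => simp only [map_zero]
      | add x y hx hy => rw [map_add (actMap A (K.X n)), map_add E, map_add (ε.f n).hom, hx, hy]
      | tmul p m =>
        rw [actMap_tmul, hE]
        rfl
    refine ⟨fun z => ?_, fun x y hxy => ?_, fun y => ?_, fun z hz => ?_⟩
    · obtain ⟨z, rfl⟩ := E.surjective z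
      rw [hδ, hε, actMap_delta]
    · obtain ⟨x, rfl⟩ := E.surjective x
      obtain ⟨y, rfl⟩ := E.surjective y
      rw [hδ, hδ] at hxy
      rw [delta_injective A (K.X n) (E.injective hxy)]
    · obtain ⟨z, hz⟩ := actMap_surjective A (K.X n) y
      exact ⟨E z, (hε z).trans hz⟩
    · obtain ⟨z, rfl⟩ := E.surjective z
      obtain ⟨w, hw⟩ := ker_actMap_le A (K.X n) (show actMap A (K.X n) z = 0 by rw [← hε]; exact hz)
      exact ⟨E w, (hδ w).trans (congrArg E hw)⟩
  let S := ShortComplex.mk δ ε (HomologicalComplex.hom_ext _ _ fun n =>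
    ModuleCat.hom_ext (LinearMap.ext fun z => (hterm n).1 z))
  have hS : S.ShortExact := HomologicalComplex.shortExact_of_degreewise_shortExact S fun n =>
    { exact := (ShortComplex.moduleCat_exact_iff _).2 (hterm n).2.2.2
      mono_f := (ModuleCat.mono_iff_injective _).2 (hterm n).2.1
      epi_g := (ModuleCat.epi_iff_surjective _).2 (hterm n).2.2.1 }
  have hflat : (C : A →+* A[X]).Flat := by
    show @Module.Flat A A[X] _ _ (C : A →+* A[X]).toAlgebra.toModule
    rw [show (C : A →+* A[X]).toAlgebra = Polynomial.algebraOfAlgebra from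
      Algebra.algebra_ext _ _ fun r => by simp [RingHom.algebraMap_toAlgebra]]
    infer_instance
  have hS₀ := amp_extend_flat (C : A →+* A[X]) hflat a b (R.obj K) h
  exact obj₃_of (DerivedCategory.triangleOfSES hS) (DerivedCategory.triangleOfSES_distinguished hS)
    (mono (by omega) (by omega) hS₀) (mono (by omega) le_rfl hS₀)

end Complex

end Groth.Agent.KSixRel
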