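import Groth.Agent.KSixRel.SpreadRel
import Groth.Agent.H9Misc.DRingLBase
import Groth.Agent.KFlatLib.Scheme.AffineLift

/-!
# Relative tor amplitude from the amplitude on a closed fibre
-/

set_option autoImplicit false
set_option linter.style.haveILetI false
set_option backward.isDefEq.respectTransparency false
set_option backward.isDefEq.respectTransparency.types false

universe u

open CategoryTheory CategoryTheory.Limits AlgebraicGeometry

attribute [local instance] HasDerivedCategory.standard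

namespace Groth.Agent.KSixRel

open KFlatLib RelPC17 H9Misc.DRingTor H9Misc.DRingLTensor

variable {X Y P : Scheme.{u}}

/-- A bounded above complex of locally free modules whose fibre over a quotient of the base ring has amplitude
`≥ a` is exact below `a`, with flat cokernel. -/
theorem flat_exact_of_quot (g : P ⟶ Y) [Flat g] [LocallyOfFinitePresentation g]
    {T : CochainComplex P.Modules ℤ} (hT : ∀ n, FlatMod.IsFinLocFree (T.X n)) (a b : ℤ) (v : P)
    {B : Type u} [CommRing B] [IsLocalRing B] (q : Y.presheaf.stalk (g v) →+* B) (hq : Function.Surjective q)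
    (hkf : IsKF ((extC' q).obj ((DerSch.stalkCxOver g v).obj T)))
    (h : DRing.HasTorAmplitudeIn B a b (DerivedCategory.Q.obj ((extC' q).obj ((DerSch.stalkCxOver g v).obj T)))) :
    FlatMod.IsFlatOverAt g (cokernel (T.d (a - 1) a)) v ∧
      ∀ i, i < a → Subsingleton ((T.homology i).presheaf.stalk v) := by
  let Q := (DerSch.stalkCxOver g v).obj T
  have hV := (H9Misc.DRingTor.iff_van hkf (Iso.refl _)).1 h
  refine JacScheme.flat_exact_of_fibre g hT a v fun p q' r hpq hqr hq' z hz => ?_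
  have hmem : ∀ (n : ℤ) (y : ((stalkCx v).obj T).X n),
      y ∈ (IsLocalRing.maximalIdeal (Y.presheaf.stalk (g v))).map (g.stalkMap v).hom •
          (⊤ : Submodule (P.presheaf.stalk v) (((stalkCx v).obj T).X n)) ↔
        (show Q.X n from y) ∈ IsLocalRing.maximalIdeal (Y.presheaf.stalk (g v)) •
          (⊤ : Submodule (Y.presheaf.stalk (g v)) (Q.X n)) := fun n y => by
    letI := (g.stalkMap v).hom.toAlgebra
    letI : Module (Y.presheaf.stalk (g v)) (((stalkCx v).obj T).X n) :=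
      Module.compHom _ (g.stalkMap v).hom
    haveI : IsScalarTower (Y.presheaf.stalk (g v)) (P.presheaf.stalk v) (((stalkCx v).obj T).X n) :=
      IsScalarTower.of_algebraMap_smul fun _ _ => rfl
    rw [show (g.stalkMap v).hom = algebraMap (Y.presheaf.stalk (g v)) (P.presheaf.stalk v) from rfl,
      ← Submodule.restrictScalars_mem (Y.presheaf.stalk (g v)), Submodule.restrictScalars_map_smul_eq,
      Submodule.restrictScalars_top]
  obtain ⟨w, hw⟩ := JacRing.exists_sub_mem_of_exact_fibre q hq Q p q' r hpq hqr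
    (hV (JacRing.resMod B) q' (Or.inl hq')) z ((hmem r _).1 hz)
  exact ⟨w, (hmem q' _).2 hw⟩

/-- The criterion after a closed immersion into a flat affine scheme of finite presentation over the base. -/
theorem amp_at_of_fibre_imm {R : CommRingCat.{u}} (i : X ⟶ Spec R) [IsClosedImmersion i]
    (g : Spec R ⟶ Y) [Flat g] [LocallyOfFinitePresentation g] (f : X ⟶ Y) (hf : i ≫ g = f)
    (F : CochainComplex X.Modules ℤ) (a b : ℤ) (hb : ∀ n, b < n → IsZero (F.homology n))
    (hpc : ∀ m, LocPC m (DCoh.toD _ ((DerSch.pushCx i).obj F))) (u : X)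
    {B : Type u} [CommRing B] [IsLocalRing B] (q : Y.presheaf.stalk (f u) →+* B) (hq : Function.Surjective q)
    [DRing.HasLBaseChange q]
    (h : DRing.HasTorAmplitudeIn B a b
      ((DRing.LBaseChange q).obj (DRing.toD ((DerSch.stalkCxOver f u).obj F)))) :
    DerSch.HasTorAmplitudeAt f a b F u := by
  subst hf
  let G := (DerSch.pushCx i).obj F
  have hbG : ∀ n, b < n → IsZero (G.homology n) := fun n hn =>
    ((Scheme.Modules.pushforward i).map_isZero (hb n hn)).of_iso ((F.sc n).mapHomologyIso (Scheme.Modules.pushforward i))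
  obtain ⟨T, hTb, hT, ⟨eT⟩⟩ := JacScheme.exists_chart_resolution hpc b
    (fun n hn => (hbG n hn).of_iso ((DerivedCategory.homologyFunctorFactors _ n).app G)) (𝟙 (Spec R))
  haveI := hTb
  obtain ⟨eid⟩ := AffineLift.nonempty_rho_id (𝟙 (Spec R)) rfl
  let v := i u
  let st := DerSch.stalkOver g v
  haveI := Functor.preservesFiniteLimits_of_preservesHomology st
  haveI := Functor.preservesFiniteColimits_of_preservesHomology st
  obtain ⟨es⟩ := nonempty_stalkCxOver_push i g F u
  let e : DerivedCategory.Q.obj ((DerSch.stalkCxOver g v).obj T) ≅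
      DerivedCategory.Q.obj ((DerSch.stalkCxOver (i ≫ g) u).obj F) :=
    (st.mapDerivedCategoryFactors.app T).symm ≪≫ st.mapDerivedCategory.mapIso (eT ≪≫ eid.app _) ≪≫
      st.mapDerivedCategoryFactors.app G ≪≫ DerivedCategory.Q.mapIso es
  have hflat : ∀ n, Module.Flat (Y.presheaf.stalk (g v)) (((DerSch.stalkCxOver g v).obj T).X n) := fun n =>
    flat_stalkOver_flf g (hT n) v
  have hvan : DRing.VanishesAbove ((DerSch.stalkCxOver g v).obj T) b := fun n hn =>
    (DerSch.stalkOver g v).map_isZero (T.isZero_of_isStrictlyLE b n hn)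
  have hkf : IsKF ((DerSch.stalkCxOver g v).obj T) := H9Misc.DRingTor.isKF_of_flat hflat hvan
  obtain ⟨el⟩ := H9Misc.DRingLBase.nonempty_lbase_iso (φ := q) hkf
  have hkf' : IsKF ((extC' q).obj ((DerSch.stalkCxOver g v).obj T)) := by
    refine H9Misc.DRingTor.isKF_of_flat (b := b) (fun n => ?_) fun n hn =>
      (ModuleCat.extendScalars.{u, u, u} q).map_isZero (hvan n hn)
    exact @H9Misc.DRingLBase.flat_extendScalars _ _ _ _ q _ (hflat n)
  obtain ⟨hC, hex⟩ := flat_exact_of_quot g hT a b v q hq hkf'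
    (of_iso ((DRing.LBaseChange q).mapIso e.symm ≪≫ el) h)
  have h₁ : DRing.HasTorAmplitudeIn _ a (max b a) (DRing.toD ((DerSch.stalkCxOver (i ≫ g) u).obj F)) :=
    of_iso e (JacScheme.amp_at_of_flat g hT a v hC hex)
  refine shrink h₁ fun n hn => ?_
  exact (((DerSch.stalkOver (i ≫ g) u).map_isZero (hb n hn)).of_iso
    ((F.sc n).mapHomologyIso (DerSch.stalkOver (i ≫ g) u))).of_iso
    ((DerivedCategory.homologyFunctorFactors _ n).app _)

/-- Relative pseudo-coherence and amplitude of a closed fibre give amplitude at the point. -/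
theorem amp_at_of_fibre (f : X ⟶ Y) [LocallyOfFiniteType f] (F : CochainComplex X.Modules ℤ) (a b : ℤ)
    (hb : ∀ n, b < n → IsZero (F.homology n)) (hpc : DerSch.IsPseudoCoherentRelAll f (DCoh.toD X F)) (x : X)
    {B : Type u} [CommRing B] [Nontrivial B] (q : Y.presheaf.stalk (f x) →+* B) (hq : Function.Surjective q)
    [DRing.HasLBaseChange q]
    (h : DRing.HasTorAmplitudeIn B a b
      ((DRing.LBaseChange q).obj (DRing.toD ((DerSch.stalkCxOver f x).obj F)))) :
    DerSch.HasTorAmplitudeAt f a b F x := by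
  haveI : IsLocalRing B := IsLocalRing.of_surjective' q hq
  obtain ⟨_, ⟨V, hV, rfl⟩, hxV, -⟩ := Y.isBasis_affineOpens.exists_subset_of_mem_open
    (show f x ∈ (⊤ : Y.Opens) from trivial) (⊤ : Y.Opens).2
  obtain ⟨_, ⟨(U₀ : X.Opens), hU₀, rfl⟩, hxU, (hle : U₀ ≤ f ⁻¹ᵁ _)⟩ :=
    X.isBasis_affineOpens.exists_subset_of_mem_open (show x ∈ f ⁻¹ᵁ V from hxV) (f ⁻¹ᵁ V).2
  obtain ⟨n, φ, hφ⟩ := exists_isChart hle (finiteType_appLE hU₀ hV hle)
  haveI := isClosedImmersion_imm hU₀ hφ.1
  let i := imm U₀ φ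
  let g : Spec (CommRingCat.of (MvPolynomial (Fin n) Γ(Y, V))) ⟶ Y :=
    Spec.map (CommRingCat.ofHom (MvPolynomial.C : Γ(Y, V) →+* MvPolynomial (Fin n) Γ(Y, V))) ≫ hV.fromSpec
  haveI : Flat (Spec.map (CommRingCat.ofHom (MvPolynomial.C : Γ(Y, V) →+* MvPolynomial (Fin n) Γ(Y, V)))) :=
    HasRingHomProperty.Spec_iff.2 (RingHom.flat_algebraMap_iff.2
      (inferInstance : Module.Flat Γ(Y, V) (MvPolynomial (Fin n) Γ(Y, V))))
  haveI : LocallyOfFinitePresentation
      (Spec.map (CommRingCat.ofHom (MvPolynomial.C : Γ(Y, V) →+* MvPolynomial (Fin n) Γ(Y, V)))) :=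
    HasRingHomProperty.Spec_iff.2 (RingHom.finitePresentation_algebraMap.2
      (inferInstance : Algebra.FinitePresentation Γ(Y, V) (MvPolynomial (Fin n) Γ(Y, V))))
  have hig : i ≫ g = (Scheme.Opens.ι U₀) ≫ f := by
    simp only [i, g, imm, Category.assoc, ← Spec.map_comp_assoc]
    rw [show CommRingCat.ofHom MvPolynomial.C ≫ CommRingCat.ofHom φ = f.appLE V U₀ hle from
      CommRingCat.hom_ext hφ.2, IsAffineOpen.SpecMap_appLE_fromSpec f hV hU₀ hle,
      IsAffineOpen.toSpecΓ_fromSpec_assoc]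
  obtain ⟨u, rfl⟩ : ∃ u : U₀, (Scheme.Opens.ι U₀).base u = x := ⟨⟨x, hxU⟩, rfl⟩
  let j := Scheme.Opens.ι U₀
  let F₁ := (pullCx j).obj F
  let eF : DCoh.toD _ ((rCx j).obj F) ≅ DCoh.toD _ F₁ := DerivedCategory.Q.mapIso
    ((NatIso.mapHomologicalComplex (Scheme.Modules.restrictFunctorIsoPullback j) (ComplexShape.up ℤ)).app F)
  have hb' : ∀ m, b < m → IsZero (F₁.homology m) := fun m hm =>
    (((Scheme.Modules.restrictFunctor j).map_isZero (hb m hm)).of_iso
      ((F.sc m).mapHomologyIso (Scheme.Modules.restrictFunctor j))).of_iso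
      ((HomologicalComplex.homologyFunctor _ _ m).mapIso
        ((NatIso.mapHomologicalComplex (Scheme.Modules.restrictFunctorIsoPullback j) (ComplexShape.up ℤ)).app F).symm)
  have hpcG : ∀ m, LocPC m (DCoh.toD _ ((DerSch.pushCx i).obj F₁)) := fun m =>
    (rel_iff.1 (hpc m) U₀ V hU₀ hV hle n φ hφ).of_iso
      ((pD i).mapIso ((rhoQ j).app F ≪≫ eF) ≪≫ (pQ i).app F₁)
  obtain ⟨es⟩ := JacFibre.nonempty_stalkCxOver_pullCx j f F u
  refine (JacFibre.hasTorAmplitudeAt_pullCx_iff j f F u a b).2 ?_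
  haveI : DRing.HasLBaseChange (show Y.presheaf.stalk ((j ≫ f) u) →+* B from q) := ‹DRing.HasLBaseChange q›
  exact amp_at_of_fibre_imm i g (j ≫ f) hig F₁ a b hb' hpcG u
    (show Y.presheaf.stalk ((j ≫ f) u) →+* B from q) hq
    (of_iso ((DRing.LBaseChange _).mapIso (DerivedCategory.Q.mapIso es)) h)

/-- A neighbourhood inside an open is a neighbourhood. -/
theorem perfAmp_nhd_image (f : X ⟶ Y) (F : CochainComplex X.Modules ℤ) (a b : ℤ) (U : X.Opens) (x : U)
    (h : ∃ W : (U : Scheme.{u}).Opens, x ∈ W ∧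
      DerSch.HasPerfAmplitudeRel (W.ι ≫ U.ι ≫ f) a b ((DCoh.restrictCx W).obj ((DCoh.restrictCx U).obj F))) :
    ∃ V : X.Opens, U.ι.base x ∈ V ∧ DerSch.HasPerfAmplitudeRel (V.ι ≫ f) a b ((DCoh.restrictCx V).obj F) := by
  obtain ⟨W, hW, h⟩ := h
  let k := W.ι ≫ U.ι
  refine ⟨k.opensRange, ⟨⟨x, hW⟩, rfl⟩, ?_⟩
  have h' := perfAmp_restrict (rangeHom k) _ h
  rw [← Category.assoc W.ι, ← Category.assoc (rangeHom k), rangeHom_fac] at h'
  exact perfAmp_of_iso _ (((rhoQ _).app _).symm ≪≫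
    (rho _).mapIso (((rhoQ W.ι).app _).symm ≪≫ (rho W.ι).mapIso ((rhoQ U.ι).app F).symm ≪≫
      rhoComp W.ι U.ι k rfl (DCoh.toD X F)) ≪≫
    rhoComp (rangeHom k) k _ (rangeHom_fac k) (DCoh.toD X F) ≪≫ (rhoQ k.opensRange.ι).app F) h'

end Groth.Agent.KSixRel
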