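import Groth.Agent.KSixRel.SpreadFree
import Groth.Agent.KSixRel.AmpBaseChange
import Groth.Agent.KFlatLib.Perfect.BettiCor
import Groth.Agent.KFlatLib.Perfect.Criterion
import Groth.Agent.RelPC17.JacFibre
import Groth.Agent.H9Misc.DRingTorDim
import Groth.Agent.H9Misc.DRingTorDevissage

/-!
# Pseudo-coherent complexes of finite tor amplitude at a point are perfect nearby
-/

set_option autoImplicit false
set_option linter.style.haveILetI false
set_option backward.isDefEq.respectTransparency false
set_option backward.isDefEq.respectTransparency.types false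

universe u

open CategoryTheory CategoryTheory.Limits AlgebraicGeometry CategoryTheory.Pretriangulated

attribute [local instance] HasDerivedCategory.standard

namespace Groth.Agent.KSixRel

open KFlatLib RelPC17 H9Misc.DRingTor

/-- The lowest term of a bounded complex of tor amplitude `≥ a` is flat if the other ones are. -/
theorem flat_lowest {A : Type u} [CommRing A] (K : DRing.Cx A) (a b b' : ℤ)
    (hz : DRing.VanishesOutside K a b') (hf : ∀ i, a < i → Module.Flat A (K.X i))
    (h : DRing.HasTorAmplitudeIn A a b (DRing.toD K)) : Module.Flat A (K.X a) := by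
  let π : K ⟶ (sg a).obj (K.X a) := HomologicalComplex.mkHomToSingle (𝟙 _)
    fun i (hi : i + 1 = a) => (hz i (by omega)).eq_of_src _ _
  haveI : ∀ i, Epi (π.f i) := fun i => by
    rcases eq_or_ne i a with rfl | hi
    · rw [show π.f i = (HomologicalComplex.singleObjXSelf _ _ _).inv by simp [π]]
      infer_instance
    · exact ⟨fun g h _ => (HomologicalComplex.isZero_single_obj_X _ _ _ _ hi).eq_of_src g h⟩
  haveI : Epi π := HomologicalComplex.epi_of_epi_f π inferInstance
  let S := ShortComplex.mk (kernel.ι π) π (kernel.condition π)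
  have hS : S.ShortExact :=
    { exact := ShortComplex.exact_of_f_is_kernel _ (kernelIsKernel π) }
  have hS' := fun i : ℤ => hS.map_of_exact (HomologicalComplex.eval (ModuleCat.{u} A) (ComplexShape.up ℤ) i)
  have hc : IsZero ((kernel π).X a) := by
    haveI : Mono ((kernel.ι π).f a) := (hS' a).mono_f
    haveI : Mono (π.f a) := by
      rw [show π.f a = (HomologicalComplex.singleObjXSelf _ _ _).inv by simp [π]]
      infer_instance
    refine IsZero.of_mono_eq_zero ((kernel.ι π).f a) ((cancel_mono (π.f a)).1 ?_)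
    rw [← HomologicalComplex.comp_f, kernel.condition, zero_comp]
    rfl
  have hne : ∀ i, i ≠ a → IsIso ((kernel.ι π).f i) := fun i hi => by
    haveI : Mono ((kernel.ι π).f i) := (hS' i).mono_f
    haveI : Epi ((kernel.ι π).f i) :=
      (hS' i).exact.epi_f ((HomologicalComplex.isZero_single_obj_X (ComplexShape.up ℤ) a (K.X a) i hi).eq_of_tgt _ _)
    exact isIso_of_mono_of_epi _
  let B := max a (max b b')
  have h₁ : DRing.HasTorAmplitudeIn A (a + 1) (B + 1) (toD'.obj (kernel π)) := by
    refine ⟨kernel π, fun i hi => ?_, fun i => ?_, ⟨Iso.refl _⟩⟩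
    · rcases eq_or_ne i a with rfl | hia
      · exact hc
      · haveI := hne i hia
        exact (hz i (by omega)).of_iso (asIso ((kernel.ι π).f i))
    · by_cases hia : a < i
      · haveI := hne i hia.ne'
        exact (Module.Flat.equiv_iff (asIso ((kernel.ι π).f i)).toLinearEquiv).2 (hf i hia)
      · have : IsZero ((kernel π).X i) := by
          rcases eq_or_ne i a with rfl | hia'
          · exact hc
          · haveI := hne i hia'
            exact (hz i (by omega)).of_iso (asIso ((kernel.ι π).f i))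
        haveI := ModuleCat.subsingleton_of_isZero this
        infer_instance
  have h₃ : DRing.HasTorAmplitudeIn A a B (toD'.obj ((sg a).obj (K.X a))) :=
    obj₃_of (DerivedCategory.triangleOfSES hS) (DerivedCategory.triangleOfSES_distinguished hS) h₁
      (mono le_rfl (by omega) h)
  obtain ⟨E, hEz, hEf, ⟨e⟩⟩ := h₃
  refine flat_of_inD _ (shrink (b := B - a) ?_ fun i hi => isZero_homology_inD _ i hi)
  refine ⟨E⟦a⟧, fun i hi => hEz (i + a) (by omega), fun i => hEf (i + a), ⟨?_⟩⟩
  exact (DerivedCategory.Q.commShiftIso a).app E ≪≫ (shiftFunctor (Dual.D A) a).mapIso e ≪≫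
    ((DerivedCategory.Q.commShiftIso a).app ((CochainComplex.singleFunctor (ModuleCat.{u} A) a).obj (K.X a))).symm ≪≫
    DerivedCategory.Q.mapIso
      (((CochainComplex.singleFunctors (ModuleCat.{u} A)).shiftIso a 0 a (by omega)).app (K.X a)) ≪≫
    ((DerivedCategory.singleFunctorIsoCompQ (ModuleCat.{u} A) 0).app _).symm

variable {X : Scheme.{u}}

/-- The stalkwise amplitude over the scheme itself is that of the complex of stalks. -/
theorem hasTorAmplitudeAt_id_iff (F : CochainComplex X.Modules ℤ) (a b : ℤ) (x : X) :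
    DerSch.HasTorAmplitudeAt (𝟙 X) a b F x ↔
      DRing.HasTorAmplitudeIn (X.presheaf.stalk x) a b (DRing.toD ((stalkCx x).obj F)) := by
  let u : DerSch.stalkOver (𝟙 X) x ≅ DerSch.stalkFunctor X x :=
    Functor.isoWhiskerLeft _ (ModuleCat.restrictScalarsId' _ (by rw [Scheme.Hom.stalkMap_id]; rfl)) ≪≫
      Functor.rightUnitor _
  let e := (NatIso.mapHomologicalComplex u (ComplexShape.up ℤ)).app F
  exact ⟨of_iso (DerivedCategory.Q.mapIso e), of_iso (DerivedCategory.Q.mapIso e.symm)⟩

/-- Amplitude of the stalk on an open subscheme. -/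
theorem amp_stalk_pullCx {U : Scheme.{u}} (j : U ⟶ X) [IsOpenImmersion j] (F : CochainComplex X.Modules ℤ)
    (a b : ℤ) (v : U)
    (h : DRing.HasTorAmplitudeIn (X.presheaf.stalk (j.base v)) a b (DRing.toD ((stalkCx (j.base v)).obj F))) :
    DRing.HasTorAmplitudeIn (U.presheaf.stalk v) a b (DRing.toD ((stalkCx v).obj ((pullCx j).obj F))) := by
  let φ := (j.stalkMap v).hom
  have hb : Function.Bijective φ := ConcreteCategory.bijective_of_isIso (j.stalkMap v)
  let eU := stalkPullCxIso j v F
  refine of_iso (DerivedCategory.Q.mapIso eU.symm) (amp_extend_flat φ ?_ a b _ h)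
  exact RingHom.Flat.of_bijective hb

/-- A pseudo-coherent complex without cohomology below `a` and of tor amplitude `≥ a` at a point is
strictly perfect, in degrees `≥ a`, near that point. -/
theorem exists_perfect_nhd (F : CochainComplex X.Modules ℤ) (a b : ℤ) (x : X)
    (hz : ∀ i, i < a → IsZero (F.homology i))
    (hpc : LocPC (a - 1) (DCoh.toD X F))
    (hx : DRing.HasTorAmplitudeIn (X.presheaf.stalk x) a b (DRing.toD ((stalkCx x).obj F))) :
    ∃ (U : Scheme.{u}) (j : U ⟶ X) (_ : IsOpenImmersion j), x ∈ Set.range j.base ∧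
      ∃ P : CochainComplex U.Modules ℤ, DCoh.IsStrictlyPerfect P ∧ (∀ i, i < a → IsZero (P.X i)) ∧
        Nonempty (DerivedCategory.Q.obj P ≅ (rho j).obj (DCoh.toD X F)) := by
  obtain ⟨U, j, _, ⟨u₀, rfl⟩, P, α, hP, hα⟩ := hpc x
  obtain ⟨a₀, b₀, hab⟩ := hP.1
  obtain ⟨W, hW, hfree⟩ := exists_free_nhd hab hP.2 u₀
  obtain ⟨n, e, -, -⟩ := exists_free_bounded (P := (rCx W.ι).obj P)
    (fun i hi => (Scheme.Modules.restrictFunctor W.ι).map_isZero (hab i hi)) hfree
  let k := W.ι ≫ j
  let P₀ := (rCx W.ι).obj P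
  let G := (rCx k).obj F
  let β : DerivedCategory.Q.obj P₀ ⟶ DerivedCategory.Q.obj G :=
    ((rhoQ W.ι).app P).inv ≫ (rho W.ι).map α ≫ (rhoComp W.ι j k rfl (DCoh.toD X F)).hom ≫ ((rhoQ k).app F).hom
  have hβ : IsPcMap (a - 1) β := (hα.map_exact _).comp_iso _ _
  let w : W := ⟨u₀, hW⟩
  obtain ⟨G', g, s, hs, hfac⟩ := DerivedCategory.left_fac β
  haveI := hs
  let H := DerivedCategory.homologyFunctor (W : Scheme.{u}).Modules
  have hg : IsPcMap (a - 1) (DerivedCategory.Q.map g) := by
    have : DerivedCategory.Q.map g = β ≫ DerivedCategory.Q.map s := by simp [hfac]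
    exact this ▸ hβ.comp (isPcMap_of_isIso _ _)
  have hgiso : ∀ i, a ≤ i → IsIso (HomologicalComplex.homologyMap g i) := fun i hi =>
    (NatIso.isIso_map_iff (DerivedCategory.homologyFunctorFactors (W : Scheme.{u}).Modules i) g).1
      (hg.1 i (by omega))
  haveI : CochainComplex.IsGE G' a := (CochainComplex.isGE_iff G' a).2 fun i hi =>
    (HomologicalComplex.exactAt_iff_isZero_homology _ _).2
      ((((Scheme.Modules.restrictFunctor k).map_isZero (hz i hi)).of_iso
        ((F.sc i).mapHomologyIso (Scheme.Modules.restrictFunctor k))).of_iso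
        (((DerivedCategory.homologyFunctorFactors _ i).app G').symm ≪≫
          (H i).mapIso (asIso (DerivedCategory.Q.map s)).symm ≪≫
          (DerivedCategory.homologyFunctorFactors _ i).app G))
  haveI hq : QuasiIso (CochainComplex.truncGEMap g a) :=
    (CochainComplex.quasiIso_truncGEMap_iff g a).2 fun i hi =>
      (quasiIsoAt_iff_isIso_homologyMap g i).2 (hgiso i hi)
  let P' := P₀.truncGE a
  let eP : DerivedCategory.Q.obj P' ≅ DerivedCategory.Q.obj G :=
    @asIso _ _ _ _ (DerivedCategory.Q.map (CochainComplex.truncGEMap g a)) (isIso_Q_map _ hq) ≪≫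
      (@asIso _ _ _ _ (DerivedCategory.Q.map (G'.πTruncGE a))
        (isIso_Q_map _ inferInstance)).symm ≪≫ (asIso (DerivedCategory.Q.map s)).symm
  let B := max a b₀
  have hz' : ∀ i, i < a ∨ B < i → IsZero (P'.X i) := by
    rintro i (hi | hi)
    · exact P'.isZero_of_isStrictlyGE a i hi
    · exact ((Scheme.Modules.restrictFunctor W.ι).map_isZero (hab i (Or.inr (by omega)))).of_iso
        (P₀.truncGEXIso a i (by omega))
  let st := DerSch.stalkFunctor (W : Scheme.{u}) w
  haveI := Functor.preservesFiniteLimits_of_preservesHomology st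
  haveI := Functor.preservesFiniteColimits_of_preservesHomology st
  have hamp : DRing.HasTorAmplitudeIn _ a b (DRing.toD ((stalkCx w).obj P')) := by
    refine of_iso ((st.mapDerivedCategoryFactors.app _).symm ≪≫ st.mapDerivedCategory.mapIso
      (DerivedCategory.Q.mapIso ((NatIso.mapHomologicalComplex
        (Scheme.Modules.restrictFunctorIsoPullback k) (ComplexShape.up ℤ)).app F).symm ≪≫ eP.symm) ≪≫
      st.mapDerivedCategoryFactors.app _) (amp_stalk_pullCx k F a b w hx)
  have hflat' : ∀ i, a < i → Module.Flat _ (((stalkCx w).obj P').X i) := fun i hi =>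
    (IsFlat.of_iso (P₀.truncGEXIso a i hi).symm (IsFlat.of_iso (e i).symm (isFlat_freeMod _))) w
  let K : DRing.Cx ((W : Scheme.{u}).presheaf.stalk w) := (stalkCx w).obj P'
  have hzK : DRing.VanishesOutside K a B := fun i hi => st.map_isZero (hz' i hi)
  have hbot : Module.Flat ((W : Scheme.{u}).presheaf.stalk w) (K.X a : Type u) :=
    flat_lowest K a b B hzK hflat' hamp
  let d' := (e (a - 1)).inv ≫ P₀.d (a - 1) a ≫ (e a).hom
  let ec₀ := IsColimit.coconePointUniqueUpToIso (cokernelIsCokernel (P₀.d (a - 1) a))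
    (P₀.opcyclesIsCokernel (a - 1) a (by simp))
  let ec : cokernel d' ≅ P'.X a :=
    cokernel.mapIso d' (P₀.d (a - 1) a) (e (a - 1)).symm (e a).symm (by simp [d']) ≪≫
      ec₀ ≪≫ (P₀.truncGEXIsoOpcycles a).symm
  obtain ⟨V, r, hwV, ⟨eV⟩⟩ := exists_free_of_flat_at d' w
    ((Module.Flat.equiv_iff (st.mapIso ec).toLinearEquiv).2 hbot)
  refine ⟨V, V.ι ≫ k, inferInstance, ⟨⟨w, hwV⟩, rfl⟩, (rCx V.ι).obj P', ⟨⟨a, B, fun i hi =>
    (Scheme.Modules.restrictFunctor V.ι).map_isZero (hz' i hi)⟩, fun i => ?_⟩,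
    fun i hi => (Scheme.Modules.restrictFunctor V.ι).map_isZero (hz' i (Or.inl hi)),
    ⟨((rhoQ V.ι).app P').symm ≪≫ (rho V.ι).mapIso (eP ≪≫ ((rhoQ k).app F).symm) ≪≫
      rhoComp V.ι k _ rfl (DCoh.toD X F)⟩⟩
  rcases lt_trichotomy i a with hi | hi | hi
  · exact isFinLocFree_of_isZero ((Scheme.Modules.restrictFunctor V.ι).map_isZero (hz' i (Or.inl hi)))
  · subst hi
    exact H23.PullPush.isFinLocFree_of_iso
      (eV.symm ≪≫ (Scheme.Modules.restrictFunctor V.ι).mapIso ec) (isFinLocFree_freeMod _)
  · exact H23.PullPush.isFinLocFree_of_iso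
      ((Scheme.Modules.restrictFunctor V.ι).mapIso ((P₀.truncGEXIso a i hi) ≪≫ e i) ≪≫
        (Scheme.Modules.restrictFunctorIsoPullback V.ι).app _ ≪≫ pullFreeIso _ _).symm (isFinLocFree_freeMod _)

end Groth.Agent.KSixRel
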